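import Mathlib
import Groth.Prelude.Def_P1
import Groth.Agent.Lib.Helper28.ProjSpaceBasic
import Groth.Agent.Lib.Helper24.SecDvr.Sch

/-!
# The two standard charts of `P^1_ℤ`, the coordinate functions and the points `0`, `∞`
-/

set_option autoImplicit false
set_option backward.isDefEq.respectTransparency false
universe u
open AlgebraicGeometry CategoryTheory HomogeneousLocalization

namespace Groth.Agent.Lib.Helper18.P1Kit


open P1

noncomputable abbrev coord (i j : Fin (1 + 1)) : Away grading.{u} (T i) :=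
  Away.isLocalizationElem (X_mem i) (X_mem j)

theorem evalAway_apply (i : Fin (1 + 1)) (x : Away grading.{u} (T i)) :
    evalAway i x = (IsLocalization.Away.lift (S := Localization.Away (T.{u} i)) (T.{u} i)
      (g := (MvPolynomial.aeval (Pi.single i (1 : R0.{u}) : Fin (1 + 1) → R0)).toRingHom)
      (by simp)) x.val := rfl

theorem evalAway_mk (i : Fin (1 + 1)) (n : ℕ) (a : MvPolynomial (Fin (1 + 1)) R0.{u})
    (ha : a ∈ grading (n • 1)) :
    evalAway i (Away.mk grading (X_mem i) n a ha) =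
      MvPolynomial.aeval (Pi.single i (1 : R0.{u}) : Fin (1 + 1) → R0) a := by
  rw [evalAway_apply, Away.val_mk, Localization.mk_eq_mk']
  unfold IsLocalization.Away.lift
  rw [IsLocalization.lift_mk'_spec]
  simp

theorem evalAway_coord (i j : Fin (1 + 1)) (hij : j ≠ i) : evalAway.{u} i (coord i j) = 0 := by
  unfold coord Away.isLocalizationElem
  rw [evalAway_mk]
  simp [hij]

/-- constants in the chart ring -/
noncomputable def const (i : Fin (1 + 1)) : R0.{u} →+* Away grading.{u} (T i) :=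
  (fromZeroRingHom grading (Submonoid.powers (T i))).comp (algebraMap R0 (grading 0))

theorem val_const (i : Fin (1 + 1)) (r : R0.{u}) :
    (const i r).val = algebraMap (MvPolynomial (Fin (1 + 1)) R0.{u}) (Localization.Away (T.{u} i))
      (MvPolynomial.C r) := by
  unfold const
  simp only [RingHom.comp_apply]
  rfl

theorem evalAway_const (i : Fin (1 + 1)) (r : R0.{u}) : evalAway i (const i r) = r := by
  rw [evalAway_apply, val_const, IsLocalization.Away.lift_eq]
  simp

theorem evalAway_surjective (i : Fin (1 + 1)) : Function.Surjective (evalAway.{u} i) :=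
  fun r => ⟨const i r, evalAway_const i r⟩

theorem adjoin_T_eq_top :
    Algebra.adjoin (grading.{u} 0) (Set.range T.{u}) = ⊤ := by
  rw [eq_top_iff]
  intro p _
  induction p using MvPolynomial.induction_on with
  | C r =>
    have h0 : (MvPolynomial.C r : MvPolynomial (Fin (1 + 1)) R0.{u}) ∈ grading.{u} 0 :=
      (MvPolynomial.mem_homogeneousSubmodule 0 _).mpr (MvPolynomial.isHomogeneous_C _ r)
    exact Subalgebra.algebraMap_mem _ (⟨MvPolynomial.C r, h0⟩ : grading.{u} 0)
  | add p q hp hq => exact add_mem (hp trivial) (hq trivial)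
  | mul_X p i hp => exact mul_mem (hp trivial) (Algebra.subset_adjoin ⟨i, rfl⟩)

theorem prod_fin_two {M : Type*} [CommMonoid M] (f : Fin (1 + 1) → M) (i j : Fin (1 + 1))
    (hij : j ≠ i) : ∏ l, f l = f i * f j := by
  rw [Fin.prod_univ_two]
  fin_cases i <;> fin_cases j <;> simp_all [mul_comm]

theorem sum_fin_two {M : Type*} [AddCommMonoid M] (f : Fin (1 + 1) → M) (i j : Fin (1 + 1))
    (hij : j ≠ i) : ∑ l, f l = f i + f j := by
  rw [Fin.sum_univ_two]
  fin_cases i <;> fin_cases j <;> simp_all [add_comm]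

/-- the generators of the chart ring are `1` or `coord` -/
theorem gen_eq (i j : Fin (1 + 1)) (hij : j ≠ i) (a : ℕ) (ai : Fin (1 + 1) → ℕ)
    (hai : ∑ l, ai l • (1 : ℕ) = a • 1) (hle : ∀ l, ai l ≤ 1)
    (h : (∏ l, T.{u} l ^ ai l) ∈ grading.{u} (a • 1)) :
    Away.mk grading (X_mem.{u} i) a (∏ l, T l ^ ai l) h = 1 ∨
    Away.mk grading (X_mem.{u} i) a (∏ l, T l ^ ai l) h = coord i j := by
  have hi := hle i
  have hj := hle j
  have hsum : ai i + ai j = a := by
    rw [sum_fin_two _ i j hij] at hai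
    simpa using hai
  have hprod : (∏ l, T.{u} l ^ ai l) = T i ^ ai i * T j ^ ai j := prod_fin_two _ i j hij
  by_cases hj0 : ai j = 0
  · left
    apply HomogeneousLocalization.val_injective
    rw [Away.val_mk, HomogeneousLocalization.val_one, ← Localization.mk_one,
      Localization.mk_eq_mk_iff, Localization.r_iff_exists]
    refine ⟨1, ?_⟩
    simp only [OneMemClass.coe_one, one_mul]
    rw [hprod, hj0, ← hsum, hj0]
    ring
  · right
    have hj1 : ai j = 1 := by omega
    apply HomogeneousLocalization.val_injective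
    rw [Away.val_mk, Away.val_mk, Localization.mk_eq_mk_iff, Localization.r_iff_exists]
    refine ⟨1, ?_⟩
    simp only [OneMemClass.coe_one, one_mul]
    rw [hprod, hj1, ← hsum, hj1]
    ring

theorem sub_const_mem (i j : Fin (1 + 1)) (hij : j ≠ i) (x : Away grading.{u} (T i)) :
    x - const i (evalAway i x) ∈ Ideal.span {coord.{u} i j} := by
  have htop := Away.adjoin_mk_prod_pow_eq_top (X_mem.{u} i) (Fin (1 + 1)) T.{u} adjoin_T_eq_top
    (fun _ => 1) X_mem
  have hx : x ∈ (⊤ : Subalgebra (grading.{u} 0) (Away grading.{u} (T i))) := trivial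
  rw [← htop] at hx
  induction hx using Algebra.adjoin_induction with
  | mem y hy =>
    obtain ⟨a, ai, hai, hle, rfl⟩ := hy
    rcases gen_eq i j hij a ai hai hle _ with h1 | h1
    · rw [h1, map_one, map_one]
      have h0 : (1 : Away grading.{u} (T i)) - 1 = 0 := sub_self (1 : Away grading.{u} (T i))
      rw [h0]
      exact zero_mem _
    · rw [h1, evalAway_coord i j hij, map_zero]
      have h0 : coord.{u} i j - 0 = coord i j := sub_zero (coord.{u} i j)
      rw [h0]
      exact Ideal.subset_span rfl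
  | algebraMap r =>
    obtain ⟨r0, rfl⟩ := Groth.Agent.Lib.Helper28.ProjSpaceBasic.algebraMap_zero_surjective 1 R0.{u} r
    change const i r0 - const i (evalAway i (const i r0)) ∈ _
    rw [evalAway_const]
    have h0 : const.{u} i r0 - const i r0 = 0 := sub_self (const.{u} i r0)
    rw [h0]
    exact zero_mem _
  | add y z _ _ hy hz =>
    have : y + z - const i (evalAway i (y + z)) =
        (y - const i (evalAway i y)) + (z - const i (evalAway i z)) := by
      rw [map_add, map_add]; ring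
    rw [this]
    exact add_mem hy hz
  | mul y z _ _ hy hz =>
    have : y * z - const i (evalAway i (y * z)) =
        y * (z - const i (evalAway i z)) + const i (evalAway i z) * (y - const i (evalAway i y)) := by
      rw [map_mul, map_mul]; ring
    rw [this]
    exact add_mem (Ideal.mul_mem_left _ _ hz) (Ideal.mul_mem_left _ _ hy)

theorem ker_evalAway (i j : Fin (1 + 1)) (hij : j ≠ i) :
    RingHom.ker (evalAway.{u} i) = Ideal.span {coord i j} := by
  apply le_antisymm
  · intro x hx
    have := sub_const_mem i j hij x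
    rw [RingHom.mem_ker.1 hx, map_zero] at this
    have h0 : x - 0 = x := sub_zero x
    rwa [h0] at this
  · rw [Ideal.span_le, Set.singleton_subset_iff]
    exact RingHom.mem_ker.2 (evalAway_coord i j hij)

/-- the transition map from the chart `T_0 ≠ 0` to the overlap -/
noncomputable def m0 : Away grading.{u} (T 0) →+* Away grading.{u} (T 0 * T 1) :=
  awayMap grading (X_mem 1) rfl

/-- the transition map from the chart `T_1 ≠ 0` to the overlap -/
noncomputable def m1 : Away grading.{u} (T 1) →+* Away grading.{u} (T 0 * T 1) :=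
  awayMap grading (X_mem 0) (mul_comm _ _)

theorem m0_coord_mul_m1_coord : m0.{u} (coord 0 1) * m1.{u} (coord 1 0) = 1 := by
  apply HomogeneousLocalization.val_injective
  rw [HomogeneousLocalization.val_mul, HomogeneousLocalization.val_one]
  unfold m0 m1 coord Away.isLocalizationElem
  rw [awayMap_mk, awayMap_mk, Away.val_mk, Away.val_mk, Localization.mk_mul, ← Localization.mk_one,
    Localization.mk_eq_mk_iff, Localization.r_iff_exists]
  refine ⟨1, ?_⟩
  simp only [OneMemClass.coe_one, one_mul, Submonoid.coe_mul]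
  ring

theorem appLE_eq_topIso_inv {X : Scheme.{u}} (D : X.Opens) (g : D.toScheme ⟶ X) (hg : g = D.ι)
    (e : ⊤ ≤ g ⁻¹ᵁ D) : g.appLE D ⊤ e = D.topIso.inv := by
  subst hg
  rw [Scheme.Opens.ι_appLE]
  rfl

section general

variable {σ A : Type u} [CommRing A] [SetLike σ A] [AddSubgroupClass σ A] (𝒜 : ℕ → σ)
  [GradedRing 𝒜] (f : A) {m : ℕ} (f_deg : f ∈ 𝒜 m) (hm : 0 < m)

theorem awayι_preimage_self :
    (Proj.awayι 𝒜 f f_deg hm) ⁻¹ᵁ (Proj.basicOpen 𝒜 f) = ⊤ := by
  rw [← Proj.opensRange_awayι 𝒜 f f_deg hm]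
  exact Scheme.Hom.preimage_opensRange _

theorem awayι_appLE_comp :
    (Proj.awayι 𝒜 f f_deg hm).appLE (Proj.basicOpen 𝒜 f) ⊤
      (awayι_preimage_self 𝒜 f f_deg hm).ge ≫ (Scheme.ΓSpecIso _).hom ≫
      Proj.awayToSection 𝒜 f = 𝟙 _ := by
  have h1 : (Proj.basicOpenIsoSpec 𝒜 f f_deg hm).hom ≫ Proj.awayι 𝒜 f f_deg hm =
      (Proj.basicOpen 𝒜 f).ι := by
    rw [← Proj.basicOpenIsoSpec_inv_ι, Iso.hom_inv_id_assoc]
  have h2 := Scheme.Hom.appLE_comp_appLE (Proj.basicOpenIsoSpec 𝒜 f f_deg hm).hom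
    (Proj.awayι 𝒜 f f_deg hm) (Proj.basicOpen 𝒜 f) ⊤ ⊤
    (awayι_preimage_self 𝒜 f f_deg hm).ge le_top
  have h3 : (Proj.basicOpenIsoSpec 𝒜 f f_deg hm).hom.appLE ⊤ ⊤ le_top =
      (Scheme.ΓSpecIso _).hom ≫ Proj.awayToSection 𝒜 f ≫ (Proj.basicOpen 𝒜 f).topIso.inv := by
    rw [← Proj.basicOpenToSpec_app_top, Proj.basicOpenIsoSpec_hom]
    exact Scheme.Hom.appLE_eq_app _
  rw [appLE_eq_topIso_inv _ _ h1, h3] at h2
  have h5 : ((Proj.awayι 𝒜 f f_deg hm).appLE (Proj.basicOpen 𝒜 f) ⊤
      (awayι_preimage_self 𝒜 f f_deg hm).ge ≫ (Scheme.ΓSpecIso _).hom ≫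
      Proj.awayToSection 𝒜 f) ≫ (Proj.basicOpen 𝒜 f).topIso.inv =
      𝟙 _ ≫ (Proj.basicOpen 𝒜 f).topIso.inv := by
    simp only [Category.assoc, Category.id_comp]
    exact h2
  exact (cancel_mono _).1 h5

theorem awayToSection_appLE :
    Proj.awayToSection 𝒜 f ≫ (Proj.awayι 𝒜 f f_deg hm).appLE (Proj.basicOpen 𝒜 f) ⊤
      (awayι_preimage_self 𝒜 f f_deg hm).ge = (Scheme.ΓSpecIso _).inv := by
  have h := awayι_appLE_comp 𝒜 f f_deg hm
  have hiso : IsIso (Proj.awayToSection 𝒜 f) :=
    (Proj.basicOpenIsoAway 𝒜 f f_deg hm).isIso_hom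
  rw [← Category.assoc] at h
  have h2 : Proj.awayToSection 𝒜 f ≫ ((Proj.awayι 𝒜 f f_deg hm).appLE (Proj.basicOpen 𝒜 f) ⊤
      (awayι_preimage_self 𝒜 f f_deg hm).ge ≫ (Scheme.ΓSpecIso _).hom) = 𝟙 _ := by
    rw [← cancel_mono (Proj.awayToSection 𝒜 f), Category.assoc, h, Category.comp_id,
      Category.id_comp]
  rw [← Category.assoc] at h2
  rw [← Iso.eq_comp_inv] at h2
  rw [h2, Category.id_comp]

end general

theorem ker_appLE_eq_ker_app {X Y : Scheme.{u}} (f : X ⟶ Y) (U : Y.Opens) (V : X.Opens)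
    (e : V ≤ f ⁻¹ᵁ U) (e' : f ⁻¹ᵁ U ≤ V) :
    RingHom.ker (f.appLE U V e).hom = RingHom.ker (f.app U).hom := by
  have h1 : f.app U = f.appLE U V e ≫ X.presheaf.map (homOfLE e').op := by
    rw [Scheme.Hom.appLE_map, Scheme.Hom.appLE_eq_app]
  have h2 : f.appLE U V e = f.app U ≫ X.presheaf.map (homOfLE e).op := rfl
  ext x
  simp only [RingHom.mem_ker]
  constructor
  · intro h
    rw [h1, CommRingCat.hom_comp, RingHom.comp_apply, h, map_zero]
  · intro h
    rw [h2, CommRingCat.hom_comp, RingHom.comp_apply, h, map_zero]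

/-- the chart opens of `P^1_ℤ` -/
noncomputable abbrev D (i : Fin (1 + 1)) : (Proj grading.{u}).Opens := Proj.basicOpen grading (T i)

/-- `point i` as a morphism to `Proj` -/
noncomputable abbrev pt (i : Fin (1 + 1)) : Spec (CommRingCat.of R0.{u}) ⟶ Proj grading.{u} :=
  point i

theorem pt_eq (i : Fin (1 + 1)) : pt.{u} i =
    Spec.map (CommRingCat.ofHom (evalAway i)) ≫ Proj.awayι grading (T i) (X_mem i) one_pos := rfl

theorem pt_preimage_D (i : Fin (1 + 1)) : pt.{u} i ⁻¹ᵁ D i = ⊤ := by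
  rw [pt_eq, Scheme.Hom.comp_preimage, awayι_preimage_self]
  rfl

theorem awayToSection_pt_appLE (i : Fin (1 + 1)) :
    Proj.awayToSection grading.{u} (T i) ≫ (pt i).appLE (D i) ⊤ (pt_preimage_D i).ge ≫
      (Scheme.ΓSpecIso _).hom = CommRingCat.ofHom (evalAway i) := by
  have h1 : (pt.{u} i).appLE (D i) ⊤ (pt_preimage_D i).ge =
      (Proj.awayι grading (T i) (X_mem i) one_pos).appLE (D i) ⊤
        (awayι_preimage_self grading (T i) (X_mem i) one_pos).ge ≫
      (Spec.map (CommRingCat.ofHom (evalAway i))).appLE ⊤ ⊤ (Scheme.Hom.preimage_top _).ge := by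
    rw [Scheme.Hom.appLE_comp_appLE]
    rfl
  rw [h1, ← Category.assoc, ← Category.assoc, awayToSection_appLE, Category.assoc]
  have h2 : (Spec.map (CommRingCat.ofHom (evalAway.{u} i))).appLE ⊤ ⊤ (Scheme.Hom.preimage_top _).ge =
      (Spec.map (CommRingCat.ofHom (evalAway.{u} i))).appTop := Scheme.Hom.appLE_eq_app _
  rw [h2, Scheme.ΓSpecIso_naturality, Iso.inv_hom_id_assoc]

/-- the coordinate function `T_j/T_i` as a section over the chart `D i` -/
noncomputable def tP (i j : Fin (1 + 1)) : Γ(Proj grading.{u}, D i) :=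
  (Proj.awayToSection grading.{u} (T i)).hom (coord i j)

theorem awayToSection_bijective (i : Fin (1 + 1)) :
    Function.Bijective (Proj.awayToSection grading.{u} (T i)).hom := by
  have hiso : IsIso (Proj.awayToSection grading.{u} (T i)) :=
    (Proj.basicOpenIsoAway grading.{u} (T i) (X_mem i) one_pos).isIso_hom
  exact ConcreteCategory.bijective_of_isIso _

theorem ker_pt_app (i j : Fin (1 + 1)) (hij : j ≠ i) :
    RingHom.ker ((pt.{u} i).app (D i)).hom = Ideal.span {tP i j} := by
  rw [← ker_appLE_eq_ker_app (pt i) (D i) ⊤ (pt_preimage_D i).ge le_top]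
  have key : ∀ y, ((pt.{u} i).appLE (D i) ⊤ (pt_preimage_D i).ge).hom
      ((Proj.awayToSection grading.{u} (T i)).hom y) = 0 ↔ evalAway i y = 0 := by
    intro y
    have h := congrArg (fun φ => φ.hom y) (awayToSection_pt_appLE.{u} i)
    simp only [CommRingCat.hom_comp, RingHom.comp_apply, CommRingCat.hom_ofHom] at h
    rw [← h]
    constructor
    · intro h0
      rw [h0, map_zero]
    · intro h0
      have hinj : Function.Injective (Scheme.ΓSpecIso (CommRingCat.of R0.{u})).hom.hom :=
        (ConcreteCategory.bijective_of_isIso _).1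
      exact hinj (by rw [h0, map_zero])
  apply le_antisymm
  · intro x hx
    obtain ⟨y, rfl⟩ := (awayToSection_bijective i).2 x
    rw [RingHom.mem_ker, key, ← RingHom.mem_ker, ker_evalAway i j hij,
      Ideal.mem_span_singleton'] at hx
    obtain ⟨a, rfl⟩ := hx
    rw [map_mul]
    exact Ideal.mul_mem_left _ _ (Ideal.subset_span rfl)
  · rw [Ideal.span_le, Set.singleton_subset_iff]
    show tP i j ∈ RingHom.ker _
    rw [RingHom.mem_ker]
    unfold tP
    rw [key, ← RingHom.mem_ker, ker_evalAway i j hij]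
    exact Ideal.subset_span rfl

theorem isClosedImmersion_point (i : Fin (1 + 1)) : IsClosedImmersion (point.{u} i) := by
  have hp : IsProper (CohB1.ProjSpace.toSpec 1 R0.{u}) :=
    Groth.Agent.Lib.Helper28.ProjSpaceBasic.isProper_toSpec 1 R0.{u}
  have : IsSeparated (CohB1.ProjSpace.toSpec 1 R0.{u}) := hp.toIsSeparated
  have h1 : point.{u} i ≫ CohB1.ProjSpace.toSpec 1 R0.{u} = 𝟙 _ :=
    specULiftZIsTerminal.hom_ext _ _
  have : IsClosedImmersion (point.{u} i ≫ CohB1.ProjSpace.toSpec 1 R0.{u}) := by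
    rw [h1]; infer_instance
  exact IsClosedImmersion.of_comp (point.{u} i) (CohB1.ProjSpace.toSpec 1 R0.{u})

instance isClosedImmersion_pt (i : Fin (1 + 1)) : IsClosedImmersion (pt.{u} i) :=
  isClosedImmersion_point i

theorem pt_mem_D (i : Fin (1 + 1)) (s : Spec (CommRingCat.of R0.{u})) : pt.{u} i s ∈ D i := by
  have : s ∈ pt.{u} i ⁻¹ᵁ D i := by rw [pt_preimage_D]; trivial
  exact this

theorem ker_stalkMap_pt (i j : Fin (1 + 1)) (hij : j ≠ i) (s : Spec (CommRingCat.of R0.{u})) :
    RingHom.ker ((pt.{u} i).stalkMap s).hom =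
      Ideal.span {((Proj grading.{u}).presheaf.germ (D i) (pt i s) (pt_mem_D i s)).hom (tP i j)} := by
  have hU : IsAffineOpen (D.{u} i) := Proj.isAffineOpen_basicOpen grading (T i) (X_mem i) one_pos
  rw [Groth.Agent.Lib.Helper24.SecDvr.ker_stalkMap (pt.{u} i) s ⟨D i, hU⟩ (pt_mem_D i s),
    Scheme.Hom.ker_apply, ker_pt_app i j hij, Ideal.map_span, Set.image_singleton]

theorem iSup_D : ⨆ i, D.{u} i = ⊤ :=
  Proj.iSup_basicOpen_eq_top' grading.{u} T.{u} (fun i => ⟨1, X_mem i⟩) adjoin_T_eq_top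

theorem mem_D_or (i j : Fin (1 + 1)) (hij : j ≠ i) (p : Proj grading.{u}) : p ∈ D i ∨ p ∈ D j := by
  have hp : p ∈ ⨆ l, D.{u} l := by rw [iSup_D]; trivial
  rw [TopologicalSpace.Opens.mem_iSup] at hp
  obtain ⟨l, hl⟩ := hp
  have : l = i ∨ l = j := by
    fin_cases l <;> fin_cases i <;> fin_cases j <;> simp_all
  rcases this with rfl | rfl
  · exact Or.inl hl
  · exact Or.inr hl

theorem range_pt (i j : Fin (1 + 1)) (hij : j ≠ i) :
    Set.range (pt.{u} i) = ((D j : Set (Proj grading.{u})))ᶜ := by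
  have hpre := Proj.awayι_preimage_basicOpen grading.{u} (X_mem i) one_pos (X_mem j) one_pos
  ext p
  constructor
  · rintro ⟨s, rfl⟩ hp
    have hy : Spec.map (CommRingCat.ofHom (evalAway.{u} i)) s ∈
        Proj.awayι grading (T i) (X_mem i) one_pos ⁻¹ᵁ D j := hp
    rw [hpre] at hy
    apply hy
    show coord i j ∈ Ideal.comap (evalAway.{u} i) s.asIdeal
    rw [Ideal.mem_comap]
    have : coord.{u} i j ∈ RingHom.ker (evalAway.{u} i) := by
      rw [ker_evalAway i j hij]; exact Ideal.subset_span rfl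
    rw [RingHom.mem_ker.1 this]
    exact zero_mem _
  · intro hp
    have hpi : p ∈ Proj.basicOpen grading.{u} (T i) := (mem_D_or i j hij p).resolve_right hp
    rw [← Proj.opensRange_awayι grading (T i) (X_mem i) one_pos] at hpi
    obtain ⟨y, rfl⟩ := hpi
    have hy : y ∉ Proj.awayι grading (T i) (X_mem i) one_pos ⁻¹ᵁ D j := hp
    rw [hpre] at hy
    have hmem : coord.{u} i j ∈ y.asIdeal := by
      by_contra hc
      exact hy hc
    have hz : y ∈ PrimeSpectrum.zeroLocus (RingHom.ker (evalAway.{u} i) : Set _) := by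
      rw [ker_evalAway i j hij, PrimeSpectrum.zeroLocus_span]
      intro x hx
      rw [Set.mem_singleton_iff] at hx
      rw [hx]
      exact hmem
    rw [← range_comap_of_surjective _ _ (evalAway_surjective i)] at hz
    obtain ⟨s, hs⟩ := hz
    exact ⟨s, by rw [pt_eq]; exact congrArg (Proj.awayι grading (T i) (X_mem i) one_pos) hs⟩

theorem germ_tP_mul (p : Proj grading.{u}) (h0 : p ∈ D 0) (h1 : p ∈ D 1) :
    ((Proj grading.{u}).presheaf.germ (D 0) p h0).hom (tP 0 1) *
      ((Proj grading.{u}).presheaf.germ (D 1) p h1).hom (tP 1 0) = 1 := by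
  have hx : p ∈ Proj.basicOpen grading.{u} (T 0 * T 1) := by
    rw [Proj.basicOpen_mul]; exact ⟨h0, h1⟩
  have e0 := Proj.awayMap_awayToSection grading.{u} (f := T 0) (X_mem 1) (x := T 0 * T 1) rfl
  have e1 := Proj.awayMap_awayToSection grading.{u} (f := T 1) (X_mem 0) (x := T 0 * T 1)
    (mul_comm _ _)
  have g0 : ((Proj grading.{u}).presheaf.germ (D 0) p h0).hom (tP 0 1) =
      ((Proj grading.{u}).presheaf.germ (Proj.basicOpen grading.{u} (T 0 * T 1)) p hx).hom
        ((Proj.awayToSection grading.{u} (T 0 * T 1)).hom (m0 (coord 0 1))) := by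
    have := congrArg (fun φ => φ.hom (coord.{u} 0 1)) e0
    simp only [CommRingCat.hom_comp, RingHom.comp_apply, CommRingCat.hom_ofHom] at this
    unfold m0
    rw [this]
    exact (TopCat.Presheaf.germ_res_apply _ _ _ _ _).symm
  have g1 : ((Proj grading.{u}).presheaf.germ (D 1) p h1).hom (tP 1 0) =
      ((Proj grading.{u}).presheaf.germ (Proj.basicOpen grading.{u} (T 0 * T 1)) p hx).hom
        ((Proj.awayToSection grading.{u} (T 0 * T 1)).hom (m1 (coord 1 0))) := by
    have := congrArg (fun φ => φ.hom (coord.{u} 1 0)) e1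
    simp only [CommRingCat.hom_comp, RingHom.comp_apply, CommRingCat.hom_ofHom] at this
    unfold m1
    rw [this]
    exact (TopCat.Presheaf.germ_res_apply _ _ _ _ _).symm
  rw [g0, g1, ← map_mul, ← map_mul, m0_coord_mul_m1_coord, map_one, map_one]


end Groth.Agent.Lib.Helper18.P1Kit
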