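import Mathlib
import Groth.Agent.Lib.Helper18.P1.Chart
import Groth.Agent.Lib.Helper18.Push.BCKer

/-!
# Pulling back the charts of `P^1_ℤ` along a morphism `r : Z ⟶ P^1_ℤ`
-/

set_option autoImplicit false
universe u
open AlgebraicGeometry CategoryTheory HomogeneousLocalization Limits

namespace Groth.Agent.Lib.Helper18.P1Kit

open P1 Groth.Agent.Lib.Helper18.Push

variable {Z Z' : Scheme.{u}} (r : Z ⟶ Proj grading.{u})

/-- the pullback of the chart `D i` -/
noncomputable abbrev V (i : Fin (1 + 1)) : Z.Opens := r ⁻¹ᵁ D i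

/-- the pullback of the coordinate function -/
noncomputable def a (i k : Fin (1 + 1)) : Γ(Z, V r i) := (r.app (D i)).hom (tP i k)

theorem mem_V_or (i k : Fin (1 + 1)) (hik : k ≠ i) (z : Z) : z ∈ V r i ∨ z ∈ V r k :=
  mem_D_or i k hik (r z)

theorem stalkMap_germ_tP (i k : Fin (1 + 1)) (z : Z) (hz : z ∈ V r i) :
    (r.stalkMap z).hom (((Proj grading.{u}).presheaf.germ (D i) (r z)
      (show r z ∈ D i from hz)).hom (tP i k)) =
      (Z.presheaf.germ (V r i) z hz).hom (a r i k) :=
  Scheme.Hom.germ_stalkMap_apply r (D i) z (show r z ∈ D i from hz) (tP i k)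

theorem germ_a_mul (z : Z) (h0 : z ∈ V r 0) (h1 : z ∈ V r 1) :
    (Z.presheaf.germ (V r 0) z h0).hom (a r 0 1) * (Z.presheaf.germ (V r 1) z h1).hom (a r 1 0) =
      1 := by
  rw [← stalkMap_germ_tP, ← stalkMap_germ_tP, ← map_mul, germ_tP_mul, map_one]

section pullback

variable {r} {i : Fin (1 + 1)} {e : Z' ⟶ Z} {w : Z' ⟶ Spec (CommRingCat.of R0.{u})}
  (sq : IsPullback e w r (pt.{u} i))

include sq

theorem isClosedImmersion_of_sq : IsClosedImmersion e :=
  MorphismProperty.of_isPullback (P := @IsClosedImmersion) sq.flip inferInstance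

theorem range_e (k : Fin (1 + 1)) (hik : k ≠ i) :
    Set.range e = ((V r k : Set Z))ᶜ := by
  ext z
  have h1 : z ∈ Set.range e ↔ r z ∈ Set.range (pt.{u} i) := by
    constructor
    · rintro ⟨z', rfl⟩
      exact ⟨w z', (sq_apply sq z')⟩
    · rintro ⟨s, hs⟩
      obtain ⟨t, ht1, ht2⟩ := Scheme.Pullback.exists_preimage_pullback (f := r) (g := pt.{u} i)
        z s hs.symm
      refine ⟨sq.isoPullback.inv t, ?_⟩
      rw [← ht1, ← Scheme.Hom.comp_apply, sq.isoPullback_inv_fst]
  rw [h1, range_pt i k hik]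
  rfl

theorem e_mem_V (z' : Z') : e z' ∈ V r i := by
  show r (e z') ∈ D i
  rw [← sq_apply sq z']
  exact pt_mem_D i (w z')

theorem ker_stalkMap_e (k : Fin (1 + 1)) (hik : k ≠ i) (z' : Z') :
    RingHom.ker (e.stalkMap z').hom =
      Ideal.span {(Z.presheaf.germ (V r i) (e z') (e_mem_V sq z')).hom (a r i k)} := by
  have hc : pt.{u} i (w z') = r (e z') := sq_apply sq z'
  have hker : ∀ (p : Proj grading.{u}) (hp : pt.{u} i (w z') = p) (hpD : p ∈ D i),
      RingHom.ker (stalkMapOfEq (pt.{u} i) (w z') p hp) =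
        Ideal.span {((Proj grading.{u}).presheaf.germ (D i) p hpD).hom (tP i k)} := by
    intro p hp hpD
    subst hp
    have : stalkMapOfEq (pt.{u} i) (w z') (pt.{u} i (w z')) rfl = ((pt.{u} i).stalkMap (w z')).hom := by
      ext t
      exact stalkMapOfEq_rfl _ _ t
    rw [this]
    exact ker_stalkMap_pt i k hik (w z')
  apply le_antisymm
  · refine (ker_stalkMap_le sq z' hc).trans ?_
    rw [hker _ hc (e_mem_V sq z'), Ideal.map_span, Set.image_singleton,
      stalkMap_germ_tP r i k (e z') (e_mem_V sq z')]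
  · refine le_trans ?_ (map_ker_le_ker_stalkMap sq z' hc)
    rw [hker _ hc (e_mem_V sq z'), Ideal.map_span, Set.image_singleton,
      stalkMap_germ_tP r i k (e z') (e_mem_V sq z')]

end pullback

end Groth.Agent.Lib.Helper18.P1Kit
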