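import Mathlib
import Groth.Prelude.Def_Cyc
import Groth.Agent.Lib.Helper18.P1.Kit
import Groth.Agent.Lib.Helper18.Cyc.RatPres2
import Groth.Agent.Lib.Helper18.Cyc.DivFamily
import Groth.Agent.Lib.Helper18.Cyc.DivFinite
import Groth.Agent.Lib.Helper18.Cyc.KeyLocal
import Groth.Agent.Lib.Helper18.Cyc.C1Unit

/-!
# The divisor of the coordinate function of `P^1` on a scheme over `P^1_ℤ`
-/

set_option autoImplicit false
universe u
open AlgebraicGeometry CategoryTheory Limits Classical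

namespace Groth.Agent.Lib.Helper18.P1Core

open P1 Groth.Agent.Lib.Helper18.P1Kit Groth.Agent.Lib.Helper18.CycDiv
  Groth.Agent.Lib.Helper18.KeyGeo Groth.Agent.Lib.Helper18.C1Core

section ordSum

variable {X : Scheme.{u}}

/-- the order along `ξ ⤳ x` of the image of an element of the local ring at `x` -/
noncomputable def ordG (x : X) (f : X.presheaf.stalk x) (ξ : X) : ℤ := by
  classical
  exact if h : ξ ⤳ x then Cyc.ordAt x ξ h (Cyc.specMap x ξ h f) else 0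

/-- the weighted sum of the orders of `f` along the immediate generizations of `x` -/
noncomputable def ordSum (δ : X → ℤ) (c : X → ℤ) (x : X) (f : X.presheaf.stalk x) : ℤ :=
  ∑ᶠ ξ ∈ {ξ : X | ξ ⤳ x ∧ δ x + 1 = δ ξ}, c ξ * ordG x f ξ

end ordSum

variable {Z : Scheme.{u}} (r : Z ⟶ Proj grading.{u})

/-- the value of the rational function `T_1/T_0` at a point of the chart `V 0`
(and `1` elsewhere) -/
noncomputable def tau (ζ : Z) : Z.residueField ζ := by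
  classical
  exact if h : ζ ∈ V r 0 then
    (Z.residue ζ).hom ((Z.presheaf.germ (V r 0) ζ h).hom (a r 0 1)) else 1

theorem specMap_germ {z ζ : Z} (h : ζ ⤳ z) (U : Z.Opens) (hz : z ∈ U) (s : Γ(Z, U)) :
    Cyc.specMap z ζ h ((Z.presheaf.germ U z hz).hom s) =
      (Z.residue ζ).hom ((Z.presheaf.germ U ζ (h.mem_open U.isOpen hz)).hom s) := by
  unfold Cyc.specMap
  rw [CommRingCat.hom_comp, RingHom.comp_apply]
  congr 1
  exact TopCat.Presheaf.germ_stalkSpecializes_apply _ _ _ _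

theorem tau_eq_specMap {z ζ : Z} (h : ζ ⤳ z) (hz : z ∈ V r 0) :
    tau r ζ = Cyc.specMap z ζ h ((Z.presheaf.germ (V r 0) z hz).hom (a r 0 1)) := by
  unfold tau
  rw [dif_pos (show ζ ∈ V r 0 from h.mem_open (V r 0).isOpen hz), specMap_germ]

theorem tau_mul_specMap {z ζ : Z} (h : ζ ⤳ z) (hz : z ∈ V r 1) (hζ : ζ ∈ V r 0) :
    tau r ζ * Cyc.specMap z ζ h ((Z.presheaf.germ (V r 1) z hz).hom (a r 1 0)) = 1 := by
  unfold tau
  rw [dif_pos hζ, specMap_germ, ← map_mul, germ_a_mul, map_one]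

theorem tau_ne_zero (ζ : Z) (h0 : ζ ∈ V r 0) (h1 : ζ ∈ V r 1) : tau r ζ ≠ 0 := by
  intro h
  have := tau_mul_specMap r (specializes_rfl : ζ ⤳ ζ) h1 h0
  rw [h, zero_mul] at this
  exact zero_ne_one this


section core1

variable (δZ : Z → ℤ) (hZ : Cyc.IsSetup Z δZ) (k : ℤ) (c : Z → ℤ)

/-- the value at `z` of the divisor of `tau` on the closure of `ζ` -/
theorem divFun_tau_of_mem_inter (ζ z : Z) (h0 : z ∈ V r 0) (h1 : z ∈ V r 1) :
    Cyc.divFun δZ ζ (tau r ζ) z = 0 := by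
  unfold Cyc.divFun
  split_ifs with h
  · have hu : IsUnit ((Z.presheaf.germ (V r 0) z h0).hom (a r 0 1)) :=
      IsUnit.of_mul_eq_one _ (germ_a_mul r z h0 h1)
    refine ordAt_eq_zero_of_isUnit h.1 _ hu.unit 1 ?_
    rw [Units.val_one, map_one, mul_one, tau_eq_specMap r h.1 h0]
    rfl
  · rfl

theorem divFun_tau_of_mem_zero (ζ z : Z) (h0 : z ∈ V r 0) :
    Cyc.divFun δZ ζ (tau r ζ) z = if ζ ⤳ z ∧ δZ z + 1 = δZ ζ then
      ordG z ((Z.presheaf.germ (V r 0) z h0).hom (a r 0 1)) ζ else 0 := by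
  unfold Cyc.divFun
  by_cases h : ζ ⤳ z ∧ δZ z + 1 = δZ ζ
  · rw [dif_pos h, if_pos h]
    unfold ordG
    rw [dif_pos h.1, tau_eq_specMap r h.1 h0]
  · rw [dif_neg h, if_neg h]

theorem divFun_tau_of_mem_one (ζ z : Z) (h1 : z ∈ V r 1) (hζ : ζ ∈ V r 0) :
    Cyc.divFun δZ ζ (tau r ζ) z = if ζ ⤳ z ∧ δZ z + 1 = δZ ζ then
      - ordG z ((Z.presheaf.germ (V r 1) z h1).hom (a r 1 0)) ζ else 0 := by
  unfold Cyc.divFun
  by_cases h : ζ ⤳ z ∧ δZ z + 1 = δZ ζ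
  · rw [dif_pos h, if_pos h]
    unfold ordG
    rw [dif_pos h.1, ← ordAt_inv]
    congr 1
    exact eq_inv_of_mul_eq_one_left (tau_mul_specMap r h.1 h1 hζ)
  · rw [dif_neg h, if_neg h]

/-- converting a sum over the index subtype into a sum over generizations -/
theorem finsum_subtype_eq_ordSum (z : Z) (hz : δZ z = k) (f : Z.presheaf.stalk z)
    (F : Z → ℤ)
    (hF : ∀ ζ, δZ ζ = k + 1 → c ζ ≠ 0 → F ζ = c ζ * (if ζ ⤳ z ∧ δZ z + 1 = δZ ζ then
      ordG z f ζ else 0)) :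
    ∑ᶠ i : {ζ : Z // δZ ζ = k + 1 ∧ c ζ ≠ 0}, F i.1 = ordSum δZ c z f := by
  unfold ordSum
  have h0 := finsum_set_coe_eq_finsum_mem (f := F) {ζ : Z | δZ ζ = k + 1 ∧ c ζ ≠ 0}
  rw [show ∑ᶠ i : {ζ : Z // δZ ζ = k + 1 ∧ c ζ ≠ 0}, F i.1 = _ from h0]
  rw [finsum_mem_def, finsum_mem_def]
  apply finsum_congr
  intro ζ
  simp only [Set.indicator_apply, Set.mem_ofPred_eq]
  by_cases h1 : δZ ζ = k + 1 ∧ c ζ ≠ 0
  · rw [if_pos h1, hF ζ h1.1 h1.2]
    by_cases h2 : ζ ⤳ z ∧ δZ z + 1 = δZ ζ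
    · rw [if_pos h2, if_pos h2]
    · rw [if_neg h2, if_neg h2, mul_zero]
  · rw [if_neg h1]
    by_cases h2 : ζ ⤳ z ∧ δZ z + 1 = δZ ζ
    · rw [if_pos h2]
      have hc : c ζ = 0 := by
        by_contra hc
        exact h1 ⟨by rw [← h2.2, hz], hc⟩
      rw [hc, zero_mul]
    · rw [if_neg h2]

include hZ in
theorem core1
    (hlf : ∀ z : Z, ∃ U : Set Z, IsOpen U ∧ z ∈ U ∧
      {i : {ζ : Z // δZ ζ = k + 1 ∧ c ζ ≠ 0} | (closure {i.1} ∩ U).Nonempty}.Finite)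
    (hgen : ∀ ζ, δZ ζ = k + 1 → c ζ ≠ 0 → ζ ∈ V r 0 ∧ ζ ∈ V r 1) :
    ∃ γ : AlgebraicCycle Z ℤ, Cyc.RatEquivZero δZ k γ ∧
      (∀ z, δZ z ≠ k → γ z = 0) ∧
      (∀ z, z ∈ V r 0 → z ∈ V r 1 → γ z = 0) ∧
      (∀ z (hz0 : z ∈ V r 0), z ∉ V r 1 → δZ z = k →
        γ z = ordSum δZ c z ((Z.presheaf.germ (V r 0) z hz0).hom (a r 0 1))) ∧
      (∀ z (hz1 : z ∈ V r 1), z ∉ V r 0 → δZ z = k →
        γ z = - ordSum δZ c z ((Z.presheaf.germ (V r 1) z hz1).hom (a r 1 0))) ∧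
      (∀ z, γ z = ∑ᶠ i : {ζ : Z // δZ ζ = k + 1 ∧ c ζ ≠ 0},
        c i.1 * Cyc.divFun δZ i.1 (tau r i.1) z) := by
  have : IsLocallyNoetherian Z := hZ.1
  set ι := {ζ : Z // δZ ζ = k + 1 ∧ c ζ ≠ 0} with hι
  set G : Z → ℤ := fun z => ∑ᶠ i : ι, Cyc.divFun δZ i.1 (tau r i.1 ^ c i.1) z with hG
  have hpres : RatPres δZ k G Set.univ := by
    refine ⟨ι, fun i => i.1, fun i => tau r i.1 ^ c i.1, fun i => i.2.1, fun i => ?_,
      fun _ => trivial, hlf, fun z => rfl⟩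
    exact zpow_ne_zero _ (tau_ne_zero r i.1 (hgen i.1 i.2.1 i.2.2).1 (hgen i.1 i.2.1 i.2.2).2)
  have hGlf : LocallyFiniteSupport G := hpres.locallyFiniteSupport
  let γ : AlgebraicCycle Z ℤ :=
    { toFun := G
      supportWithinDomain' := Set.subset_univ _
      supportLocallyFiniteWithinDomain' := fun z _ => hGlf z }
  have hGz : ∀ z, G z = ∑ᶠ i : ι, c i.1 * Cyc.divFun δZ i.1 (tau r i.1) z := by
    intro z
    apply finsum_congr
    intro i
    rw [divFun_zpow]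
  refine ⟨γ, RatPres.ratEquivZero γ hpres, ?_, ?_, ?_, ?_, hGz⟩
  · intro z hz
    show G z = 0
    apply finsum_eq_zero_of_forall_eq_zero
    intro i
    apply divFun_eq_zero_of_ne
    rw [i.2.1]
    intro h
    exact hz (by linarith)
  · intro z h0 h1
    show G z = 0
    rw [hGz]
    apply finsum_eq_zero_of_forall_eq_zero
    intro i
    rw [divFun_tau_of_mem_inter r δZ i.1 z h0 h1, mul_zero]
  · intro z hz0 _ hzk
    show G z = _
    rw [hGz]
    exact finsum_subtype_eq_ordSum δZ k c z hzk _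
      (fun ζ => c ζ * Cyc.divFun δZ ζ (tau r ζ) z)
      (fun ζ _ _ => by rw [divFun_tau_of_mem_zero r δZ ζ z hz0])
  · intro z hz1 _ hzk
    show G z = _
    rw [hGz, ← finsum_subtype_eq_ordSum δZ k c z hzk _
      (fun ζ => - (c ζ * Cyc.divFun δZ ζ (tau r ζ) z))
      (fun ζ h1 h2 => by
        rw [divFun_tau_of_mem_one r δZ ζ z hz1 (hgen ζ h1 h2).1]
        split_ifs <;> ring)]
    rw [← finsum_neg_distrib]
    apply finsum_congr
    intro i
    ring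

end core1

end Groth.Agent.Lib.Helper18.P1Core
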