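import Mathlib
import Groth.Agent.Lib.Helper18.P1.Kit
import Groth.Agent.Lib.Helper28.ProjSpaceBasic

/-!
# The sections `0`, `∞` of `P^1_X ⟶ X` as base changes of the points of `P^1_ℤ`
-/

set_option autoImplicit false
universe u
open AlgebraicGeometry CategoryTheory HomogeneousLocalization Limits

namespace Groth.Agent.Lib.Helper18.P1Kit

open P1 Groth.Agent.Lib.Helper18.Push

variable (X : Scheme.{u})

/-- the projection `P^1_X ⟶ P^1_ℤ` -/
noncomputable def q : CohB1.ProjSpaceOver 1 X ⟶ Proj grading.{u} :=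
  pullback.fst (CohB1.ProjSpace.toSpec 1 R0.{u}) (specULiftZIsTerminal.from X)

theorem sect_toBase (i : Fin (1 + 1)) : sect X i ≫ CohB1.ProjSpaceOver.toBase 1 X = 𝟙 X := by
  unfold sect CohB1.ProjSpaceOver.toBase
  exact pullback.lift_snd _ _ _

theorem sect_q (i : Fin (1 + 1)) : sect X i ≫ q X = specULiftZIsTerminal.from X ≫ pt i := by
  unfold sect q
  exact pullback.lift_fst _ _ _

theorem isPullback_sect (i : Fin (1 + 1)) :
    IsPullback (sect X i) (specULiftZIsTerminal.from X) (q X) (pt.{u} i) := by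
  have t : IsPullback (CohB1.ProjSpaceOver.toBase 1 X) (q X) (specULiftZIsTerminal.from X)
      (CohB1.ProjSpace.toSpec 1 R0.{u}) := (IsPullback.of_hasPullback _ _).flip
  have h1 : point.{u} i ≫ CohB1.ProjSpace.toSpec 1 R0.{u} = 𝟙 _ :=
    specULiftZIsTerminal.hom_ext _ _
  have s : IsPullback (sect X i ≫ CohB1.ProjSpaceOver.toBase 1 X) (specULiftZIsTerminal.from X)
      (specULiftZIsTerminal.from X) (point.{u} i ≫ CohB1.ProjSpace.toSpec 1 R0.{u}) := by
    rw [sect_toBase, h1]
    exact IsPullback.id_horiz _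
  exact IsPullback.of_right s (sect_q X i) t

instance isClosedImmersion_sect (i : Fin (1 + 1)) : IsClosedImmersion (sect X i) :=
  isClosedImmersion_of_sq (isPullback_sect X i)

/-- the pasted square for a morphism into `P^1_X` -/
theorem isPullback_fst {Z : Scheme.{u}} (ι : Z ⟶ CohB1.ProjSpaceOver 1 X) (i : Fin (1 + 1)) :
    IsPullback (pullback.fst ι (sect X i))
      (pullback.snd ι (sect X i) ≫ specULiftZIsTerminal.from X) (ι ≫ q X) (pt.{u} i) :=
  (IsPullback.of_hasPullback ι (sect X i)).paste_vert (isPullback_sect X i)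

end Groth.Agent.Lib.Helper18.P1Kit
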