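import Mathlib
import Groth.Prelude.Def_P1
import Groth.Prelude.Def_Cyc
import Groth.Agent.Lib.Helper18.P1.Core
import Groth.Agent.Lib.Helper18.P1.Sect

set_option autoImplicit false
set_option linter.style.haveILetI false
set_option backward.isDefEq.respectTransparency false
universe u
open AlgebraicGeometry CategoryTheory CategoryTheory.Limits HomogeneousLocalization

namespace Groth.Agent.Lib.Helper18.P1Graph

open P1 Groth.Agent.Lib.Helper18.P1Kit Groth.Agent.Lib.Helper18.P1Core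

theorem chartMap_apply (i : Fin (1 + 1)) (B : Type u) [CommRing B] (b : B)
    (x : Away grading.{u} (T i)) :
    chartMap i B b x = (IsLocalization.Away.lift (S := Localization.Away (T.{u} i)) (T.{u} i)
      (g := MvPolynomial.eval₂Hom ((Int.castRingHom B).comp ULift.ringEquiv.toRingHom)
        (Function.update (fun _ => b) i 1))
      (by simp)) x.val := rfl

theorem chartMap_mk (i : Fin (1 + 1)) (B : Type u) [CommRing B] (b : B) (n : ℕ)
    (a : MvPolynomial (Fin (1 + 1)) R0.{u}) (ha : a ∈ grading (n • 1)) :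
    chartMap i B b (Away.mk grading (X_mem i) n a ha) =
      MvPolynomial.eval₂Hom ((Int.castRingHom B).comp ULift.ringEquiv.toRingHom)
        (Function.update (fun _ => b) i 1) a := by
  rw [chartMap_apply, Away.val_mk, Localization.mk_eq_mk']
  unfold IsLocalization.Away.lift
  rw [IsLocalization.lift_mk'_spec]
  simp

theorem chartMap_coord (B : Type u) [CommRing B] (b : B) :
    chartMap.{u} 0 B b (coord 0 1) = b := by
  unfold coord Away.isLocalizationElem
  rw [chartMap_mk]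
  simp

/-- two sections with the same restriction to a neighbourhood of `x` have the same value at `x` -/
theorem evaluation_eq_of_map_eq {X : Scheme.{u}} (U₁ U₂ W : X.Opens) (h₁ : W ≤ U₁) (h₂ : W ≤ U₂)
    (x : X) (hx : x ∈ W) (s₁ : Γ(X, U₁)) (s₂ : Γ(X, U₂))
    (h : (X.presheaf.map (homOfLE h₁).op).hom s₁ = (X.presheaf.map (homOfLE h₂).op).hom s₂) :
    X.evaluation U₁ x (h₁ hx) s₁ = X.evaluation U₂ x (h₂ hx) s₂ := by
  have e1 : X.evaluation U₁ x (h₁ hx) s₁ =
      X.evaluation W x hx ((X.presheaf.map (homOfLE h₁).op).hom s₁) := by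
    unfold Scheme.evaluation
    simp only [CommRingCat.comp_apply]
    congr 1
    exact (TopCat.Presheaf.germ_res_apply X.presheaf (homOfLE h₁) x hx s₁).symm
  have e2 : X.evaluation U₂ x (h₂ hx) s₂ =
      X.evaluation W x hx ((X.presheaf.map (homOfLE h₂).op).hom s₂) := by
    unfold Scheme.evaluation
    simp only [CommRingCat.comp_apply]
    congr 1
    exact (TopCat.Presheaf.germ_res_apply X.presheaf (homOfLE h₂) x hx s₂).symm
  rw [e1, e2, h]

theorem appLE_congr_hom {X Y : Scheme.{u}} {f g : X ⟶ Y} (h : f = g) (U : Y.Opens) (V : X.Opens)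
    (e : V ≤ f ⁻¹ᵁ U) : f.appLE U V e = g.appLE U V (h ▸ e) := by
  subst h
  rfl

section graph

variable (X : Scheme.{u}) (U : X.Opens) (f : Γ(X, U))

/-- the composite of the graph with the projection to `P^1_ℤ` -/
noncomputable abbrev gq : (↑U : Scheme.{u}) ⟶ Proj grading.{u} :=
  U.toSpecΓ ≫ Spec.map (CommRingCat.ofHom (chartMap 0 Γ(X, U) f)) ≫
      Proj.awayι grading (T 0) (X_mem 0) one_pos

theorem graph_toBase : P1.graph X U f ≫ CohB1.ProjSpaceOver.toBase 1 X = U.ι := by
  unfold P1.graph CohB1.ProjSpaceOver.toBase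
  exact pullback.lift_snd _ _ _

theorem graph_q : P1.graph X U f ≫ q X = gq X U f := by
  unfold P1.graph q
  exact pullback.lift_fst _ _ _

theorem gq_preimage_D0 : gq X U f ⁻¹ᵁ D 0 = ⊤ := by
  unfold gq
  rw [Scheme.Hom.comp_preimage, Scheme.Hom.comp_preimage, awayι_preimage_self]
  rfl

theorem gq_appLE_tP :
    ((gq X U f).appLE (D 0) ⊤ (gq_preimage_D0 X U f).ge).hom (tP 0 1) = U.topIso.inv.hom f := by
  have h1 : (gq X U f).appLE (D 0) ⊤ (gq_preimage_D0 X U f).ge =
      (Proj.awayι grading (T 0) (X_mem 0) one_pos).appLE (D 0) ⊤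
        (awayι_preimage_self grading (T 0) (X_mem 0) one_pos).ge ≫
      (Spec.map (CommRingCat.ofHom (chartMap 0 Γ(X, U) f))).appLE ⊤ ⊤
        (Scheme.Hom.preimage_top _).ge ≫
      U.toSpecΓ.appLE ⊤ ⊤ (Scheme.Hom.preimage_top _).ge := by
    rw [Scheme.Hom.appLE_comp_appLE, Scheme.Hom.appLE_comp_appLE]
    rfl
  have h2 : (Spec.map (CommRingCat.ofHom (chartMap 0 Γ(X, U) f))).appLE ⊤ ⊤
      (Scheme.Hom.preimage_top _).ge =
      (Spec.map (CommRingCat.ofHom (chartMap 0 Γ(X, U) f))).appTop := Scheme.Hom.appLE_eq_app _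
  have h3 : U.toSpecΓ.appLE ⊤ ⊤ (Scheme.Hom.preimage_top _).ge = U.toSpecΓ.appTop :=
    Scheme.Hom.appLE_eq_app _
  have h4 := awayToSection_appLE grading.{u} (T 0) (X_mem 0) one_pos
  have h5 : (Proj.awayToSection grading.{u} (T 0)) ≫
      (gq X U f).appLE (D 0) ⊤ (gq_preimage_D0 X U f).ge =
      CommRingCat.ofHom (chartMap 0 Γ(X, U) f) ≫ U.topIso.inv := by
    rw [h1, ← Category.assoc, h4, h2, h3, Scheme.Opens.toSpecΓ_appTop,
      ← Category.assoc, ← Category.assoc, ← Scheme.ΓSpecIso_inv_naturality]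
    simp
  have h6 := congrArg (fun φ => φ.hom (coord 0 1)) h5
  simp only [CommRingCat.hom_comp, RingHom.comp_apply, CommRingCat.hom_ofHom] at h6
  rw [chartMap_coord] at h6
  exact h6

theorem gq_preimage_D1 (hf : IsUnit f) : gq X U f ⁻¹ᵁ D 1 = ⊤ := by
  unfold gq
  rw [Scheme.Hom.comp_preimage, Scheme.Hom.comp_preimage]
  have h1 : Proj.awayι grading.{u} (T 0) (X_mem 0) one_pos ⁻¹ᵁ D 1 =
      PrimeSpectrum.basicOpen (coord 0 1) :=
    Proj.awayι_preimage_basicOpen grading.{u} (X_mem 0) one_pos (X_mem 1) one_pos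
  rw [h1, SpecMap_preimage_basicOpen]
  have h2 : (CommRingCat.ofHom (chartMap 0 Γ(X, U) f)) (coord 0 1) = f := chartMap_coord _ f
  rw [h2, Scheme.Opens.toSpecΓ_preimage_basicOpen, Scheme.basicOpen_of_isUnit _ hf]
  exact U.ι_preimage_self

theorem gq_mem_D0 (u : (↑U : Scheme.{u})) : gq X U f u ∈ D 0 := by
  have : u ∈ gq X U f ⁻¹ᵁ D 0 := by rw [gq_preimage_D0]; trivial
  exact this

theorem gq_mem_D1 (hf : IsUnit f) (u : (↑U : Scheme.{u})) : gq X U f u ∈ D 1 := by
  have : u ∈ gq X U f ⁻¹ᵁ D 1 := by rw [gq_preimage_D1 X U f hf]; trivial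
  exact this

end graph

section tau

variable {X Y : Scheme.{u}} (U : X.Opens) (f : Γ(X, U)) (r : Y ⟶ Proj grading.{u}) (p : Y ⟶ X)
  (Tm : (↑U : Scheme.{u}) ⟶ Y) (hp : Tm ≫ p = U.ι) (hr : Tm ≫ r = gq X U f)

include hr in
theorem T_mem_V (u : (↑U : Scheme.{u})) : Tm u ∈ V r 0 := by
  show r (Tm u) ∈ D 0
  have : r (Tm u) = gq X U f u := by
    rw [← hr]; rfl
  rw [this]
  exact gq_mem_D0 X U f u

include hr in
theorem T_mem_V1 (hf : IsUnit f) (u : (↑U : Scheme.{u})) : Tm u ∈ V r 1 := by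
  show r (Tm u) ∈ D 1
  have : r (Tm u) = gq X U f u := by
    rw [← hr]; rfl
  rw [this]
  exact gq_mem_D1 X U f hf u

include hp in
theorem p_T_mem (u : (↑U : Scheme.{u})) : p (Tm u) ∈ U := by
  have : p (Tm u) = U.ι u := by
    rw [← hp]; rfl
  rw [this]
  exact u.2

include hp hr in
theorem tau_eq (u : (↑U : Scheme.{u})) :
    tau r (Tm u) = (p.residueFieldMap (Tm u)).hom
      ((X.evaluation U (p (Tm u)) (p_T_mem U p Tm hp u)).hom f) := by
  apply (Tm.residueFieldMap u).hom.injective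
  have hV := T_mem_V U f r Tm hr u
  have e1 : tau r (Tm u) = (Y.evaluation (V r 0) (Tm u) hV).hom (a r 0 1) := by
    unfold tau
    rw [dif_pos hV]
    rfl
  rw [e1]
  have e2 := Scheme.evaluation_naturality_apply Tm u hV (a r 0 1)
  have e3 := Scheme.evaluation_naturality_apply p (Tm u) (p_T_mem U p Tm hp u) f
  have e4 := Scheme.evaluation_naturality_apply Tm u
    (show Tm u ∈ p ⁻¹ᵁ U from p_T_mem U p Tm hp u) ((p.app U).hom f)
  refine e2.trans (Eq.trans ?_ (e4.symm.trans (congrArg _ e3.symm)))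
  have hle1 : (⊤ : (↑U : Scheme.{u}).Opens) ≤ Tm ⁻¹ᵁ V r 0 := fun v _ => T_mem_V U f r Tm hr v
  have hle2 : (⊤ : (↑U : Scheme.{u}).Opens) ≤ Tm ⁻¹ᵁ p ⁻¹ᵁ U := fun v _ => p_T_mem U p Tm hp v
  refine evaluation_eq_of_map_eq _ _ ⊤ hle1 hle2 u trivial _ _ ?_
  have l1 : ((↑U : Scheme.{u}).presheaf.map (homOfLE hle1).op).hom
      ((Tm.app (V r 0)).hom (a r 0 1)) =
      ((Tm ≫ r).appLE (D 0) ⊤ hle1).hom (tP 0 1) := by
    rfl
  have l2 : ((↑U : Scheme.{u}).presheaf.map (homOfLE hle2).op).hom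
      ((Tm.app (p ⁻¹ᵁ U)).hom ((p.app U).hom f)) =
      ((Tm ≫ p).appLE U ⊤ hle2).hom f := by
    rfl
  rw [l1, l2, appLE_congr_hom hr, appLE_congr_hom hp, gq_appLE_tP, Scheme.Opens.ι_appLE,
    Scheme.Opens.topIso_inv]
  rfl

end tau

/-- the norm along a trivial residue field extension -/
theorem normGen_of_surjective {X Y : Scheme.{u}} (p : Y ⟶ X) (y : Y)
    (hs : Function.Surjective (p.residueFieldMap y).hom) (g : X.residueField (p y)) :
    Cyc.normGen p y ((p.residueFieldMap y).hom g) = g := by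
  unfold Cyc.normGen
  letI := (p.residueFieldMap y).hom.toAlgebra
  have hbij : Function.Bijective (algebraMap (X.residueField (p y)) (Y.residueField y)) :=
    ⟨(p.residueFieldMap y).hom.injective, hs⟩
  have e : X.residueField (p y) ≃ₗ[X.residueField (p y)] Y.residueField y :=
    LinearEquiv.ofBijective (Algebra.linearMap _ _) hbij
  have hfr : Module.finrank (X.residueField (p y)) (Y.residueField y) = 1 := by
    rw [← e.finrank_eq]
    exact Module.finrank_self _
  have : (p.residueFieldMap y).hom g = algebraMap (X.residueField (p y)) (Y.residueField y) g := rfl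
  rw [this, Algebra.norm_algebraMap, hfr, pow_one]

theorem residueFieldMap_surjective_of_comp_openImmersion {X Y W : Scheme.{u}} (p : Y ⟶ X)
    (Tm : W ⟶ Y) (j : W ⟶ X) [IsOpenImmersion j] (hp : Tm ≫ p = j) (u : W) :
    Function.Surjective (p.residueFieldMap (Tm u)).hom := by
  have hbij : Function.Bijective ((Tm ≫ p).residueFieldMap u).hom := by
    rw [hp]
    exact ConcreteCategory.bijective_of_isIso _
  rw [Scheme.residueFieldMap_comp] at hbij
  intro b
  obtain ⟨t, ht⟩ := hbij.2 ((Tm.residueFieldMap u).hom b)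
  refine ⟨t, ?_⟩
  apply (Tm.residueFieldMap u).hom.injective
  rw [← ht]
  rfl

theorem delta_eq_of_surjective {X Y : Scheme.{u}} (p : Y ⟶ X) (δY : Y → ℤ) (δ : X → ℤ)
    (hδ : Cyc.DeltaCompat p δY δ) (y : Y)
    (hs : Function.Surjective (p.residueFieldMap y).hom) : δY y = δ (p y) := by
  obtain ⟨n, hn, hd⟩ := hδ y
  let _ := (p.residueFieldMap y).hom.toAlgebra
  have hs' : Function.Surjective (algebraMap (X.residueField (p y)) (Y.residueField y)) := hs
  have : Algebra.IsAlgebraic (X.residueField (p y)) (Y.residueField y) :=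
    ⟨fun b => by
      obtain ⟨t, rfl⟩ := hs' b
      exact isAlgebraic_algebraMap t⟩
  have h0 : Algebra.trdeg (X.residueField (p y)) (Y.residueField y) = 0 :=
    trdeg_eq_zero
  rw [h0] at hn
  have : n = 0 := by exact_mod_cast hn.symm
  rw [hd, this]
  simp

theorem divFun_evaluation_congr {X : Scheme.{u}} (δ : X → ℤ) (U : X.Opens) (f : Γ(X, U))
    (x x' : X) (h : x = x') (hx : x ∈ U) (hx' : x' ∈ U) :
    Cyc.divFun δ x ((X.evaluation U x hx).hom f) = Cyc.divFun δ x' ((X.evaluation U x' hx').hom f) := by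
  subst h
  rfl


end Groth.Agent.Lib.Helper18.P1Graph
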