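import Mathlib
import Groth.Prelude.Def_Cyc
import Groth.Agent.Lib.Helper18.P1.Core
import Groth.Agent.Lib.Helper18.Cyc.GysinSheaf
import Groth.Agent.Lib.Helper18.Cyc.PullDivSum
import Groth.Agent.Lib.Helper18.Cyc.PullRat

/-!
# The weighted order sums as lengths (structure sheaf and coherent modules)
-/

set_option autoImplicit false
set_option maxHeartbeats 1000000
set_option linter.style.haveILetI false
universe u
open AlgebraicGeometry CategoryTheory Limits Classical IsLocalRing Pointwise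

namespace Groth.Agent.Lib.Helper18.P1Core

open Groth.Agent.Lib.Helper18.CycDiv Groth.Agent.Lib.Helper18.C1Core
  Groth.Agent.Lib.Helper18.CycPull Groth.Agent.Lib.Helper18.KeyGeo
  Groth.Agent.Lib.Helper13.StalkSpecLoc Groth.Agent.Lib.Helper18.GysinSheaf
  Groth.Agent.Lib.Helper18.StalkLoc Groth.Agent.Lib.Helper18.GysinFlat

variable {X : Scheme.{u}}

/-- the maximal points of a closed subset of a locally Noetherian scheme form a locally finite
family -/
theorem locallyFinite_maximal_points [IsLocallyNoetherian X] (Y : Set X) (hY : IsClosed Y)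
    (S : Set X) (hS : ∀ s ∈ S, s ∈ Y ∧ ∀ y ∈ Y, y ⤳ s → y = s) (x : X) :
    ∃ U : Set X, IsOpen U ∧ x ∈ U ∧ {i : ↥S | (closure {i.1} ∩ U).Nonempty}.Finite := by
  obtain ⟨_, ⟨W, hW, rfl⟩, hxW, -⟩ :=
    X.isBasis_affineOpens.exists_subset_of_mem_open (Set.mem_univ x) isOpen_univ
  have hW' : IsAffineOpen W := hW
  refine ⟨W, W.isOpen, hxW, ?_⟩
  haveI : IsNoetherianRing Γ(X, W) := IsLocallyNoetherian.component_noetherian ⟨W, hW'⟩
  haveI : TopologicalSpace.NoetherianSpace ↥W := noetherianSpace_of_isAffineOpen W hW'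
  haveI : QuasiSober ↥W := W.isOpenEmbedding'.quasiSober
  let T : Set ↥W := {w | w.1 ∈ Y}
  have hT : IsClosed T := hY.preimage continuous_subtype_val
  have hfinT := finite_maximal_points_of_isClosed hT
  have hfin2 : (Subtype.val '' {w : ↥W | w ∈ T ∧ ∀ z ∈ T, z ⤳ w → z = w}).Finite := hfinT.image _
  refine Set.Finite.of_injOn (f := fun i : ↥S => i.1) ?_ (Subtype.val_injective.injOn) hfin2
  rintro ⟨s, hsS⟩ ⟨y, hy1, hyW⟩
  have hsp : s ⤳ y := specializes_iff_mem_closure.2 hy1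
  have hsW : s ∈ W := hsp.mem_open W.isOpen hyW
  refine ⟨⟨s, hsW⟩, ⟨(hS s hsS).1, ?_⟩, rfl⟩
  intro z hz hzs
  have : z.1 ⤳ s := hzs.map continuous_subtype_val
  exact Subtype.ext ((hS s hsS).2 z.1 hz this)


theorem bijOn_toPrime_struct (x : X) :
    Set.BijOn (toPrime x) {ξ | ξ ⤳ x ∧ ξ ≠ x}
      {p | p ∈ Module.support (X.presheaf.stalk x) (X.presheaf.stalk x) ∧
        p.asIdeal ≠ maximalIdeal (X.presheaf.stalk x)} := by
  refine ⟨?_, ?_, ?_⟩
  · rintro ξ ⟨h, hne⟩
    rw [toPrime_eq h]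
    refine ⟨?_, primeOf_ne_maximalIdeal h hne⟩
    rw [Module.support_eq_zeroLocus, Module.annihilator_eq_bot.2 inferInstance]
    simp
  · rintro ξ₁ ⟨h₁, -⟩ ξ₂ ⟨h₂, -⟩ he
    rw [toPrime_eq h₁, toPrime_eq h₂] at he
    exact eq_of_primeOf_eq h₁ h₂ (congrArg PrimeSpectrum.asIdeal he)
  · rintro p ⟨hp, hpm⟩
    haveI := p.isPrime
    obtain ⟨ξ, h, hpξ⟩ := exists_primeOf_eq x p.asIdeal
    have hpeq : p = ⟨primeOf h, inferInstance⟩ := PrimeSpectrum.ext hpξ.symm
    refine ⟨ξ, ⟨h, ?_⟩, ?_⟩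
    · intro e
      exact hpm (hpξ ▸ primeOf_eq_maximalIdeal_of_eq h e)
    · rw [toPrime_eq h, hpeq]


theorem supportDim_self_le_one (δ : X → ℤ) (hX : Cyc.IsSetup X δ) (k : ℤ)
    (x : X) (hdim : ∀ ξ : X, ξ ⤳ x → δ ξ ≤ k + 1) (hx : δ x = k) :
    Module.supportDim (X.presheaf.stalk x) (X.presheaf.stalk x) ≤ 1 := by
  unfold Module.supportDim
  rw [Order.krullDim_le_one_iff]
  rintro ⟨p, hp⟩
  haveI := p.isPrime
  obtain ⟨ξ, h, hpξ⟩ := exists_primeOf_eq x p.asIdeal
  have hpeq : p = ⟨primeOf h, inferInstance⟩ := PrimeSpectrum.ext hpξ.symm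
  by_cases hne : ξ = x
  · right
    intro q _
    show q.1 ≤ p
    rw [hpeq]
    show q.1.asIdeal ≤ primeOf h
    rw [primeOf_eq_maximalIdeal_of_eq h hne]
    exact IsLocalRing.le_maximalIdeal q.1.isPrime.ne_top
  · left
    intro q hqp
    haveI := q.1.isPrime
    obtain ⟨ξ', h', hq⟩ := exists_primeOf_eq x q.1.asIdeal
    have hqeq : q.1 = ⟨primeOf h', inferInstance⟩ := PrimeSpectrum.ext hq.symm
    have hle : primeOf h' ≤ primeOf h := by
      have : q.1 ≤ p := hqp
      rw [hqeq, hpeq] at this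
      exact this
    have hspec : ξ' ⤳ ξ := specializes_of_primeOf_le h' h hle
    have h1 := hdim ξ' h'
    have h2 := (hX.2.2 ξ x h hne).1
    have hξ : ξ' = ξ := by
      by_contra hne'
      have h3 := (hX.2.2 ξ' ξ hspec hne').1
      omega
    show p ≤ q.1
    rw [hqeq, hpeq]
    show primeOf h ≤ primeOf h'
    exact (primeOf_congr hξ.symm h h').le

theorem ordSum_struct (δ : X → ℤ) (hX : Cyc.IsSetup X δ) (k : ℤ)
    (x : X) (hdim : ∀ ξ : X, ξ ⤳ x → δ ξ ≤ k + 1) (hx : δ x = k) (f : X.presheaf.stalk x)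
    (hfm : f ∈ maximalIdeal (X.presheaf.stalk x))
    (hreg : IsSMulRegular (X.presheaf.stalk x) f) :
    ordSum δ (fun ξ => ((Module.length (X.presheaf.stalk ξ) (X.presheaf.stalk ξ)).toNat : ℤ)) x f =
      ((Module.length (X.presheaf.stalk x) (X.presheaf.stalk x ⧸
        f • (⊤ : Submodule (X.presheaf.stalk x) (X.presheaf.stalk x)))).toNat : ℤ) := by
  haveI : IsLocallyNoetherian X := hX.1
  have hdimX := hX.2.2
  have hsd := supportDim_self_le_one δ hX k x hdim hx
  obtain ⟨hnot, hlen⟩ := length_quot_regular_eq_finsum (X.presheaf.stalk x)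
    (X.presheaf.stalk x) f hfm hreg hsd
  rw [hlen]
  unfold ordSum
  have hset : {ξ : X | ξ ⤳ x ∧ δ x + 1 = δ ξ} = {ξ | ξ ⤳ x ∧ ξ ≠ x} := by
    ext ξ
    constructor
    · rintro ⟨h, hd⟩
      refine ⟨h, ?_⟩
      rintro rfl
      omega
    · rintro ⟨h, hne⟩
      refine ⟨h, ?_⟩
      have h1 := hdim ξ h
      have h2 := (hdimX ξ x h hne).1
      omega
  rw [hset]
  refine finsum_mem_eq_of_bijOn (toPrime x) (bijOn_toPrime_struct x) ?_
  rintro ξ ⟨h, hne⟩
  have hmemS := (bijOn_toPrime_struct x).mapsTo (show ξ ∈ {ξ | ξ ⤳ x ∧ ξ ≠ x} from ⟨h, hne⟩)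
  have hfp : f ∉ primeOf h := by
    have := hnot _ hmemS.1 hmemS.2
    rwa [toPrime_eq h] at this
  have h1 := hdim ξ h
  have h2 := (hdimX ξ x h hne).1
  have hδξ : δ x + 1 = δ ξ := by omega
  have hd := krullDimLE_one_locQuot δ hdimX h hδξ
  have hne' : Cyc.specMap x ξ h f ≠ 0 := by
    intro h0
    apply hfp
    rw [← ker_specMap h]
    exact RingHom.mem_ker.2 h0
  have hord : Ring.ord (X.presheaf.stalk x ⧸ primeOf h)
      (Ideal.Quotient.mk (primeOf h) f) =
      Ring.ord (Cyc.LocQuot x ξ h)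
        (Ideal.Quotient.mk (RingHom.ker (Cyc.specMap x ξ h)) f) :=
    ord_eq_of_ringEquiv (Ideal.quotEquivOfEq (ker_specMap h).symm) _
  unfold ordG
  rw [dif_pos h, ordAt_specMap h hd f hne', toPrime_eq h]
  show _ = ((Ring.ord (X.presheaf.stalk x ⧸ primeOf h)
      (Ideal.Quotient.mk (primeOf h) f)).toNat : ℤ) *
    ((Module.length (Localization.AtPrime (primeOf h))
      (LocalizedModule (primeOf h).primeCompl (X.presheaf.stalk x))).toNat : ℤ)
  rw [hord, length_localizedModule_primeOf h]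
  ring


theorem ordSum_sheaf (δ : X → ℤ) (hX : Cyc.IsSetup X δ) (k : ℤ) (F : X.Modules)
    (hF : Coh.IsCoh F) (hdim : ∀ x : X, Nontrivial (F.presheaf.stalk x) → δ x ≤ k + 1)
    (x : X) (hx : δ x = k) (f : X.presheaf.stalk x)
    (hfm : f ∈ maximalIdeal (X.presheaf.stalk x))
    (hreg : IsSMulRegular (F.presheaf.stalk x) f) :
    ordSum δ (Cyc.sheafFun δ (k + 1) F) x f =
      ((Module.length (X.presheaf.stalk x) (F.presheaf.stalk x ⧸
        f • (⊤ : Submodule (X.presheaf.stalk x) (F.presheaf.stalk x)))).toNat : ℤ) := by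
  haveI : IsLocallyNoetherian X := hX.1
  haveI : F.IsQuasicoherent := hF.1
  have hdimX := hX.2.2
  haveI : Module.Finite (X.presheaf.stalk x) (F.presheaf.stalk x) :=
    Groth.Agent.Lib.Helper7.StalkFree.finite_stalk_of_isCoh X F hF x
  have hsd := supportDim_stalk_le_one δ hX F k hdim x hx
  obtain ⟨hnot, hlen⟩ := length_quot_regular_eq_finsum (X.presheaf.stalk x)
    (F.presheaf.stalk x) f hfm hreg hsd
  rw [hlen]
  unfold ordSum
  have hR2 := finsum_mem_inter_support_eq' (fun ξ : X => Cyc.sheafFun δ (k + 1) F ξ * ordG x f ξ)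
    {ξ : X | ξ ⤳ x ∧ δ x + 1 = δ ξ} {ξ | ξ ⤳ x ∧ ξ ≠ x ∧ Nontrivial (F.presheaf.stalk ξ)}
    (fun ξ hξ => by
      have h1 : Cyc.sheafFun δ (k + 1) F ξ ≠ 0 := left_ne_zero_of_mul hξ
      have hnt : Nontrivial (F.presheaf.stalk ξ) := by
        by_contra hnt
        rw [not_nontrivial_iff_subsingleton] at hnt
        apply h1
        unfold Cyc.sheafFun
        split_ifs
        · have : Module.length (X.presheaf.stalk ξ) (F.presheaf.stalk ξ) = 0 :=
            Module.length_eq_zero_iff.2 hnt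
          rw [this]
          rfl
        · rfl
      constructor
      · rintro ⟨h, hd⟩
        refine ⟨h, ?_, hnt⟩
        rintro rfl
        omega
      · rintro ⟨h, hne, -⟩
        refine ⟨h, ?_⟩
        have h1 := hdim ξ hnt
        have h2 := (hdimX ξ x h hne).1
        omega)
  rw [hR2]
  refine finsum_mem_eq_of_bijOn (toPrime x) (bijOn_toPrime F x) ?_
  rintro ξ ⟨h, hne, hnt⟩
  have hmemS := (bijOn_toPrime F x).mapsTo (show ξ ∈ {ξ | ξ ⤳ x ∧ ξ ≠ x ∧
    Nontrivial (F.presheaf.stalk ξ)} from ⟨h, hne, hnt⟩)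
  have hfp : f ∉ primeOf h := by
    have := hnot _ hmemS.1 hmemS.2
    rwa [toPrime_eq h] at this
  have h1 := hdim ξ hnt
  have h2 := (hdimX ξ x h hne).1
  have hδξ : δ x + 1 = δ ξ := by omega
  have hd := krullDimLE_one_locQuot δ hdimX h hδξ
  have hne' : Cyc.specMap x ξ h f ≠ 0 := by
    intro h0
    apply hfp
    rw [← ker_specMap h]
    exact RingHom.mem_ker.2 h0
  have hsh : Cyc.sheafFun δ (k + 1) F ξ =
      ((Module.length (X.presheaf.stalk ξ) (F.presheaf.stalk ξ)).toNat : ℤ) := by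
    unfold Cyc.sheafFun
    rw [if_pos (by omega)]
  have hord : Ring.ord (X.presheaf.stalk x ⧸ primeOf h)
      (Ideal.Quotient.mk (primeOf h) f) =
      Ring.ord (Cyc.LocQuot x ξ h)
        (Ideal.Quotient.mk (RingHom.ker (Cyc.specMap x ξ h)) f) :=
    ord_eq_of_ringEquiv (Ideal.quotEquivOfEq (ker_specMap h).symm) _
  unfold ordG
  rw [dif_pos h, ordAt_specMap h hd f hne', hsh, toPrime_eq h]
  show _ = ((Ring.ord (X.presheaf.stalk x ⧸ primeOf h)
      (Ideal.Quotient.mk (primeOf h) f)).toNat : ℤ) *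
    ((Module.length (Localization.AtPrime (primeOf h))
      (LocalizedModule (primeOf h).primeCompl (F.presheaf.stalk x))).toNat : ℤ)
  rw [hord, length_localizedModule_stalk F h]
  ring

end Groth.Agent.Lib.Helper18.P1Core
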