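import Mathlib
import Groth.Prelude.Def_Cyc
import Groth.Agent.Lib.Helper18.P1.Core
import Groth.Agent.Lib.Helper18.Cyc.ClosedPush
import Groth.Agent.Lib.Helper18.Cyc.DivTransfer

/-!
# Pushing forward a cycle supported on the two fibres `0`, `∞`
-/

set_option autoImplicit false
universe u
open AlgebraicGeometry CategoryTheory Limits Classical

namespace Groth.Agent.Lib.Helper18.P1Core

open P1 Groth.Agent.Lib.Helper18.P1Kit Groth.Agent.Lib.Helper18.CycDiv

section push

variable {Z Z' X : Scheme.{u}} (h : Z ⟶ X) (e : Z' ⟶ Z) [IsClosedImmersion (e ≫ h)]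

/-- the residue field extension of `h` at a point of `Z'` is trivial -/
theorem residueFieldMap_surjective_of_comp (z' : Z') :
    Function.Surjective (h.residueFieldMap (e z')).hom := by
  have hbij : Function.Bijective ((e ≫ h).residueFieldMap z').hom :=
    residueFieldMap_bijective_of_surjective (e ≫ h) z' ((e ≫ h).stalkMap_surjective z')
  rw [Scheme.residueFieldMap_comp] at hbij
  intro b
  obtain ⟨t, ht⟩ := hbij.2 ((e.residueFieldMap z').hom b)
  refine ⟨t, ?_⟩
  apply (e.residueFieldMap z').hom.injective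
  rw [← ht]
  rfl

theorem residueDegree_eq_one_of_comp (z' : Z') : h.residueDegree (e z') = 1 :=
  residueDegree_eq_one_of_surjective h (e z') (residueFieldMap_surjective_of_comp h e z')

theorem delta_eq_of_comp (δZ : Z → ℤ) (δ : X → ℤ) (hδ : Cyc.DeltaCompat h δZ δ) (z' : Z') :
    δZ (e z') = δ (h (e z')) := by
  obtain ⟨n, hn, hd⟩ := hδ (e z')
  let _ := (h.residueFieldMap (e z')).hom.toAlgebra
  have hs : Function.Surjective (algebraMap (X.residueField (h (e z'))) (Z.residueField (e z'))) :=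
    residueFieldMap_surjective_of_comp h e z'
  have : Algebra.IsAlgebraic (X.residueField (h (e z'))) (Z.residueField (e z')) :=
    ⟨fun b => by
      obtain ⟨t, rfl⟩ := hs b
      exact isAlgebraic_algebraMap t⟩
  have h0 : Algebra.trdeg (X.residueField (h (e z'))) (Z.residueField (e z')) = 0 :=
    trdeg_eq_zero
  rw [h0] at hn
  have : n = 0 := by exact_mod_cast hn.symm
  rw [hd, this]
  simp

theorem mapCoeff_eq_one_of_comp (δZ : Z → ℤ) (δ : X → ℤ) (hδ : Cyc.DeltaCompat h δZ δ) (z' : Z') :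
    AlgebraicCycle.mapCoeff h δZ δ (e z') = 1 := by
  unfold AlgebraicCycle.mapCoeff
  rw [if_pos (delta_eq_of_comp h e δZ δ hδ z'), residueDegree_eq_one_of_comp]

theorem comp_injective : Function.Injective (e ≫ h) :=
  (e ≫ h).isClosedEmbedding.injective

include h in
theorem e_injective : Function.Injective e := by
  intro a b hab
  apply comp_injective h e
  show h (e a) = h (e b)
  rw [hab]

end push

section core2

variable {Z Z₀ Z₁ X : Scheme.{u}} (h : Z ⟶ X) [QuasiCompact h] (r : Z ⟶ Proj grading.{u})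
  {e₀ : Z₀ ⟶ Z} {w₀ : Z₀ ⟶ Spec (CommRingCat.of R0.{u})} (sq₀ : IsPullback e₀ w₀ r (pt.{u} 0))
  {e₁ : Z₁ ⟶ Z} {w₁ : Z₁ ⟶ Spec (CommRingCat.of R0.{u})} (sq₁ : IsPullback e₁ w₁ r (pt.{u} 1))
  [IsClosedImmersion (e₀ ≫ h)] [IsClosedImmersion (e₁ ≫ h)]
  (δZ : Z → ℤ) (δ : X → ℤ) (hδ : Cyc.DeltaCompat h δZ δ) (γ : AlgebraicCycle Z ℤ)

include sq₀ sq₁ hδ in
theorem map_apply_core2 (hγ : ∀ z, z ∈ V r 0 → z ∈ V r 1 → γ z = 0) (x : X) :
    (AlgebraicCycle.map h δZ δ γ) x =
      ∑ᶠ z' ∈ {z' : Z₀ | (e₀ ≫ h) z' = x}, γ (e₀ z') +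
      ∑ᶠ z' ∈ {z' : Z₁ | (e₁ ≫ h) z' = x}, γ (e₁ z') := by
  simp only [AlgebraicCycle.map, Function.locallyFinsupp.map_apply]
  set F : Z → ℤ := fun z => γ z * ((AlgebraicCycle.mapCoeff h δZ δ z : ℕ) : ℤ) with hF
  set A₀ : Set Z₀ := {z' : Z₀ | (e₀ ≫ h) z' = x} with hA₀
  set A₁ : Set Z₁ := {z' : Z₁ | (e₁ ≫ h) z' = x} with hA₁
  have hA₀fin : A₀.Finite := Set.Subsingleton.finite
    (fun a ha b hb => comp_injective h e₀ (ha.trans hb.symm))
  have hA₁fin : A₁.Finite := Set.Subsingleton.finite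
    (fun a ha b hb => comp_injective h e₁ (ha.trans hb.symm))
  have hr0 := range_e sq₀ 1 (by decide)
  have hr1 := range_e sq₁ 0 (by decide)
  have hdisj : Disjoint (e₀ '' A₀) (e₁ '' A₁) := by
    rw [Set.disjoint_left]
    rintro z ⟨a, -, rfl⟩ ⟨b, -, hb⟩
    have h1 : e₀ a ∈ Set.range e₀ := ⟨a, rfl⟩
    have h2 : e₀ a ∈ Set.range e₁ := ⟨b, hb⟩
    rw [hr0] at h1
    rw [hr1] at h2
    rcases mem_V_or r 0 1 (by decide) (e₀ a) with h3 | h3
    · exact h2 h3
    · exact h1 h3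
  have hsupp : h ⁻¹' {x} ∩ Function.support F = (e₀ '' A₀ ∪ e₁ '' A₁) ∩ Function.support F := by
    ext z
    constructor
    · rintro ⟨hzx, hzF⟩
      refine ⟨?_, hzF⟩
      have hγz : γ z ≠ 0 := left_ne_zero_of_mul hzF
      by_cases h0 : z ∈ V r 0
      · have h1 : z ∉ V r 1 := fun h1 => hγz (hγ z h0 h1)
        have : z ∈ Set.range e₀ := by rw [hr0]; exact h1
        obtain ⟨a, rfl⟩ := this
        exact Or.inl ⟨a, hzx, rfl⟩
      · have : z ∈ Set.range e₁ := by rw [hr1]; exact h0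
        obtain ⟨b, rfl⟩ := this
        exact Or.inr ⟨b, hzx, rfl⟩
    · rintro ⟨hz, hzF⟩
      refine ⟨?_, hzF⟩
      rcases hz with ⟨a, ha, rfl⟩ | ⟨b, hb, rfl⟩
      · exact ha
      · exact hb
  rw [← finsum_mem_inter_support (s := h ⁻¹' {x}), hsupp, finsum_mem_inter_support,
    finsum_mem_union hdisj (hA₀fin.image _) (hA₁fin.image _),
    finsum_mem_image (fun a _ b _ hab => e_injective h e₀ hab),
    finsum_mem_image (fun a _ b _ hab => e_injective h e₁ hab)]
  congr 1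
  · apply finsum_mem_congr rfl
    intro a _
    show γ (e₀ a) * _ = _
    rw [mapCoeff_eq_one_of_comp h e₀ δZ δ hδ a]
    simp
  · apply finsum_mem_congr rfl
    intro a _
    show γ (e₁ a) * _ = _
    rw [mapCoeff_eq_one_of_comp h e₁ δZ δ hδ a]
    simp

end core2

end Groth.Agent.Lib.Helper18.P1Core
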