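import Mathlib
import Groth.Prelude.Def_Cyc
import Groth.Agent.Lib.Helper18.Cyc.StalkLoc
import Groth.Agent.Lib.Helper18.Push.BCKer
import Groth.Agent.Lib.lead.DimFunPullback
import Groth.Agent.Lib.Helper24.Loc.EssFTCatenary
import Groth.Agent.Lib.Helper18.Push.SubPush

/-!
# Regularity from the absence of associated points, lengths of quotients, transfer of the
standing hypotheses
-/

set_option autoImplicit false
set_option linter.style.haveILetI false
universe u
open AlgebraicGeometry CategoryTheory Limits IsLocalRing Pointwise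

namespace Groth.Agent.Lib.Helper18.P1Core


open Groth.Agent.Lib.Helper13.StalkSpecLoc Groth.Agent.Lib.Helper18.StalkLoc

variable {X : Scheme.{u}}

/-- an element of the local ring at `x` avoiding the primes of all associated points is a
nonzerodivisor -/
theorem isSMulRegular_struct [IsLocallyNoetherian X] (x : X) (f : X.presheaf.stalk x)
    (H : ∀ (ξ : X) (h : ξ ⤳ x), IsAssociatedPrime (maximalIdeal (X.presheaf.stalk ξ))
      (X.presheaf.stalk ξ) → f ∉ primeOf h) :
    IsSMulRegular (X.presheaf.stalk x) f := by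
  by_contra hreg
  have hz : ∃ b : X.presheaf.stalk x, b ≠ 0 ∧ f • b = 0 := by
    by_contra hcon
    push Not at hcon
    apply hreg
    intro a b hab
    have h1 : f • (a - b) = 0 := by
      rw [smul_sub]
      exact sub_eq_zero.2 hab
    by_contra hne
    exact hcon (a - b) (sub_ne_zero.2 hne) h1
  have hmem : f ∈ {r : X.presheaf.stalk x | ∃ b : X.presheaf.stalk x, b ≠ 0 ∧ r • b = 0} := hz
  rw [← biUnion_associatedPrimes_eq_zero_divisors] at hmem
  obtain ⟨p, hp, hfp⟩ := Set.mem_iUnion₂.1 hmem
  haveI : p.IsPrime := hp.isPrime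
  obtain ⟨ξ, h, hpξ⟩ := exists_primeOf_eq x p
  apply H ξ h ?_ (hpξ ▸ hfp)
  letI := (X.presheaf.stalkSpecializes h).hom.toAlgebra
  haveI := isLocalization_stalkSpecializes h
  haveI : IsLocalizedModule (primeOf h).primeCompl
      (Algebra.linearMap (X.presheaf.stalk x) (X.presheaf.stalk ξ)) :=
    (isLocalizedModule_iff_isLocalization).2 inferInstance
  have := Module.associatedPrimes.mem_associatedPrimes_of_comap_mem_associatedPrimes_of_isLocalizedModule
    (primeOf h).primeCompl (Algebra.linearMap (X.presheaf.stalk x) (X.presheaf.stalk ξ))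
    (maximalIdeal (X.presheaf.stalk ξ)) (by
      show primeOf h ∈ associatedPrimes _ _
      rw [hpξ]
      exact hp)
  exact this


/-- an element of the local ring at `x` avoiding the primes of all associated points of a
quasi-coherent module is a nonzerodivisor on the stalk -/
theorem isSMulRegular_sheaf [IsLocallyNoetherian X] (F : X.Modules) [F.IsQuasicoherent]
    (x : X) (f : X.presheaf.stalk x)
    (H : ∀ (ξ : X) (h : ξ ⤳ x), IsAssociatedPrime (maximalIdeal (X.presheaf.stalk ξ))
      (F.presheaf.stalk ξ) → f ∉ primeOf h) :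
    IsSMulRegular (F.presheaf.stalk x) f := by
  by_contra hreg
  have hz : ∃ b : F.presheaf.stalk x, b ≠ 0 ∧ f • b = 0 := by
    by_contra hcon
    push Not at hcon
    apply hreg
    intro a b hab
    have h1 : f • (a - b) = 0 := by
      rw [smul_sub]
      exact sub_eq_zero.2 hab
    by_contra hne
    exact hcon (a - b) (sub_ne_zero.2 hne) h1
  have hmem : f ∈ {r : X.presheaf.stalk x | ∃ b : F.presheaf.stalk x, b ≠ 0 ∧ r • b = 0} := hz
  rw [← biUnion_associatedPrimes_eq_zero_divisors] at hmem
  obtain ⟨p, hp, hfp⟩ := Set.mem_iUnion₂.1 hmem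
  haveI : p.IsPrime := hp.isPrime
  obtain ⟨ξ, h, hpξ⟩ := exists_primeOf_eq x p
  apply H ξ h ?_ (hpξ ▸ hfp)
  letI := (X.presheaf.stalkSpecializes h).hom.toAlgebra
  haveI := isLocalization_stalkSpecializes h
  letI := moduleSpec F h
  haveI := isLocalizedModule_spLinear F h
  haveI : IsScalarTower (X.presheaf.stalk x) (X.presheaf.stalk ξ) (F.presheaf.stalk ξ) :=
    ⟨fun a b m => by
      show (X.presheaf.stalkSpecializes h a * b) • m = X.presheaf.stalkSpecializes h a • (b • m)
      rw [mul_smul]⟩
  have := Module.associatedPrimes.mem_associatedPrimes_of_comap_mem_associatedPrimes_of_isLocalizedModule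
    (primeOf h).primeCompl (spLinear F h)
    (maximalIdeal (X.presheaf.stalk ξ)) (by
      show primeOf h ∈ associatedPrimes _ _
      rw [hpξ]
      exact hp)
  exact this


theorem smul_top_eq_span {A : Type u} [CommRing A] (f : A) :
    (f • (⊤ : Submodule A A)) = Ideal.span {f} := by
  rw [← Submodule.ideal_span_singleton_smul f ⊤]
  show Ideal.span {f} * ⊤ = Ideal.span {f}
  exact Ideal.mul_top _

theorem length_self_eq_length_quot_smul {A B : Type u} [CommRing A] [CommRing B] (φ : A →+* B)
    (hφ : Function.Surjective φ) (f : A) (hker : RingHom.ker φ = Ideal.span {f}) :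
    Module.length B B = Module.length A (A ⧸ f • (⊤ : Submodule A A)) := by
  have h1 := Groth.Agent.Lib.Helper18.Push.length_quot_eq_of_surjective' φ hφ (Ideal.span {f}) ⊥
    (by rw [← hker]; rfl)
  have h2 : Module.length B (B ⧸ (⊥ : Ideal B)) = Module.length B B :=
    (Submodule.quotEquivOfEqBot (⊥ : Submodule B B) rfl).length_eq
  have h3 : Module.length A (A ⧸ f • (⊤ : Submodule A A)) = Module.length A (A ⧸ Ideal.span {f}) :=
    (Submodule.quotEquivOfEq _ _ (smul_top_eq_span f)).length_eq
  rw [h3, h1, h2]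



/-- the standing hypotheses pass to schemes locally of finite type with the induced dimension
function -/
theorem isSetup_of_lft {Y X : Scheme.{u}} (f : Y ⟶ X) [LocallyOfFiniteType f] (δ : X → ℤ)
    (hX : Cyc.IsSetup X δ) (δY : Y → ℤ) (hδ : Cyc.DeltaCompat f δY δ) : Cyc.IsSetup Y δY := by
  haveI : IsLocallyNoetherian X := hX.1
  refine ⟨LocallyOfFiniteType.isLocallyNoetherian f, fun y => ?_,
    Groth.Agent.Lib.lead.DimFunPullback.main f δ hX δY hδ⟩
  letI := (f.stalkMap y).hom.toAlgebra
  haveI : Algebra.EssFiniteType (X.presheaf.stalk (f y)) (Y.presheaf.stalk y) :=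
    LocallyOfFiniteType.stalkMap f y
  exact Groth.Agent.Lib.Helper24.EssFTCat.main _ _ (hX.2.1 (f y))

/-- the restricted dimension function on a closed subscheme, composed with a morphism -/
theorem deltaCompat_comp_closedImmersion {Z P X : Scheme.{u}} (ι : Z ⟶ P) [IsClosedImmersion ι]
    (p : P ⟶ X) (δP : P → ℤ) (δ : X → ℤ) (hδ : Cyc.DeltaCompat p δP δ) :
    Cyc.DeltaCompat (ι ≫ p) (fun z => δP (ι z)) δ := by
  have := Groth.Agent.Lib.Helper18.Push.deltaCompat_square ι (𝟙 X) p (ι ≫ p)
    (Category.comp_id _) δP δ hδ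
  exact this


end Groth.Agent.Lib.Helper18.P1Core
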