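import Mathlib
import Groth.Prelude.Def_Cyc
import Groth.Prelude.Def_P1
import Groth.Agent.Lib.Helper18.P1.Sect
import Groth.Agent.Lib.Helper18.P1.PushCore
import Groth.Agent.Lib.Helper18.P1.Length
import Groth.Agent.Lib.Helper18.P1.Regular
import Groth.Agent.Lib.Helper18.Push.PushRat

/-!
# The fibres over `0` and `∞` of a closed subscheme of `P^1_X` are rationally equivalent
-/

set_option autoImplicit false
set_option maxHeartbeats 1000000
set_option linter.style.haveILetI false
set_option linter.unusedSectionVars false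
universe u
open AlgebraicGeometry CategoryTheory Limits IsLocalRing Pointwise Classical

namespace Groth.Agent.Lib.Helper18.P1Sub

open P1 Groth.Agent.Lib.Helper18.P1Kit Groth.Agent.Lib.Helper18.P1Core
  Groth.Agent.Lib.Helper18.Push Groth.Agent.Lib.Helper13.StalkSpecLoc

section general

variable {Z : Scheme.{u}} (r : Z ⟶ Proj grading.{u})

/-- if the germ of the coordinate function `a_i` at a generization `ζ` of `z` lies in the maximal
ideal then `ζ` is not in the other chart -/
theorem notMem_V_of_mem_primeOf (i k : Fin (1 + 1)) (hik : (i = 0 ∧ k = 1) ∨ (i = 1 ∧ k = 0))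
    {z ζ : Z} (h : ζ ⤳ z) (hz : z ∈ V r i)
    (hmem : (Z.presheaf.germ (V r i) z hz).hom (a r i k) ∈ primeOf h) : ζ ∉ V r k := by
  intro hζk
  have hζi : ζ ∈ V r i := h.mem_open (V r i).isOpen hz
  have h1 : (Z.presheaf.germ (V r i) ζ hζi).hom (a r i k) ∈ maximalIdeal (Z.presheaf.stalk ζ) := by
    have : (Z.presheaf.stalkSpecializes h).hom ((Z.presheaf.germ (V r i) z hz).hom (a r i k)) ∈
        maximalIdeal (Z.presheaf.stalk ζ) := hmem
    rwa [TopCat.Presheaf.germ_stalkSpecializes_apply] at this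
  have hu : IsUnit ((Z.presheaf.germ (V r i) ζ hζi).hom (a r i k)) := by
    rcases hik with ⟨rfl, rfl⟩ | ⟨rfl, rfl⟩
    · exact IsUnit.of_mul_eq_one _ (germ_a_mul r ζ hζi hζk)
    · exact IsUnit.of_mul_eq_one _ (by rw [mul_comm]; exact germ_a_mul r ζ hζk hζi)
  exact (mem_maximalIdeal _).1 h1 hu


variable {r} {Z' : Scheme.{u}} {i : Fin (1 + 1)} {e : Z' ⟶ Z}
  {w : Z' ⟶ Spec (CommRingCat.of R0.{u})} (sq : IsPullback e w r (pt.{u} i))

include sq in
/-- the weighted order sum of the coordinate function at a point of the fibre is the length of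
the local ring of the fibre -/
theorem ordSum_fibre_struct (k' : Fin (1 + 1)) (hik : (i = 0 ∧ k' = 1) ∨ (i = 1 ∧ k' = 0))
    (δZ : Z → ℤ) (hZ : Cyc.IsSetup Z δZ) (k : ℤ) (z' : Z')
    (hdim : ∀ ξ : Z, ξ ⤳ e z' → δZ ξ ≤ k + 1) (hk : δZ (e z') = k)
    (H : ∀ ζ : Z, ζ ⤳ e z' → IsAssociatedPrime (maximalIdeal (Z.presheaf.stalk ζ))
      (Z.presheaf.stalk ζ) → ζ ∈ V r k') :
    ordSum δZ (fun ξ => ((Module.length (Z.presheaf.stalk ξ) (Z.presheaf.stalk ξ)).toNat : ℤ))
      (e z') ((Z.presheaf.germ (V r i) (e z') (e_mem_V sq z')).hom (a r i k')) =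
      ((Module.length (Z'.presheaf.stalk z') (Z'.presheaf.stalk z')).toNat : ℤ) := by
  haveI : IsLocallyNoetherian Z := hZ.1
  haveI : IsClosedImmersion e := isClosedImmersion_of_sq sq
  have hne : k' ≠ i := by
    rcases hik with ⟨rfl, rfl⟩ | ⟨rfl, rfl⟩ <;> decide
  set f := (Z.presheaf.germ (V r i) (e z') (e_mem_V sq z')).hom (a r i k') with hf
  have hker : RingHom.ker (e.stalkMap z').hom = Ideal.span {f} := ker_stalkMap_e sq k' hne z'
  have hfm : f ∈ maximalIdeal (Z.presheaf.stalk (e z')) := by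
    rw [mem_maximalIdeal, mem_nonunits_iff]
    intro hu
    have h0 : (e.stalkMap z').hom f = 0 := by
      have : f ∈ RingHom.ker (e.stalkMap z').hom := by
        rw [hker]
        exact Ideal.mem_span_singleton_self f
      exact RingHom.mem_ker.1 this
    have hu' := hu.map (e.stalkMap z').hom
    rw [h0] at hu'
    exact not_isUnit_zero hu'
  have hreg : IsSMulRegular (Z.presheaf.stalk (e z')) f := by
    apply isSMulRegular_struct
    intro ζ h hass hmem
    exact notMem_V_of_mem_primeOf r i k' hik h (e_mem_V sq z') hmem (H ζ h hass)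
  rw [ordSum_struct δZ hZ k (e z') hdim hk f hfm hreg,
    length_self_eq_length_quot_smul (e.stalkMap z').hom (e.stalkMap_surjective z') f hker]

end general


section main

variable (X : Scheme.{u}) (δ : X → ℤ) (hX : Cyc.IsSetup X δ)
  (δP : ↥(CohB1.ProjSpaceOver 1 X) → ℤ)
  (hP : Cyc.DeltaCompat (CohB1.ProjSpaceOver.toBase 1 X) δP δ) (k : ℤ) (Z : Scheme.{u})
  (ι : Z ⟶ CohB1.ProjSpaceOver 1 X) [IsClosedImmersion ι]

instance isProper_toBase : IsProper (CohB1.ProjSpaceOver.toBase 1 X) :=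
  Groth.Agent.Lib.Helper28.ProjSpaceBasic.isProper_toBase 1 X

include hX hP in
theorem isSetup_P : Cyc.IsSetup (CohB1.ProjSpaceOver 1 X) δP := by
  exact isSetup_of_lft (CohB1.ProjSpaceOver.toBase 1 X) δ hX δP hP

theorem deltaCompat_ι : Cyc.DeltaCompat ι (fun z => δP (ι z)) δP := by
  have := deltaCompat_comp_closedImmersion ι (𝟙 _) δP δP (fun p => ⟨0, by
    letI := ((𝟙 (CohB1.ProjSpaceOver 1 X) : _ ⟶ _).residueFieldMap p).hom.toAlgebra
    have hs : Function.Surjective (algebraMap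
        ((CohB1.ProjSpaceOver 1 X).residueField ((𝟙 (CohB1.ProjSpaceOver 1 X) : _ ⟶ _) p))
        ((CohB1.ProjSpaceOver 1 X).residueField p)) := by
      show Function.Surjective ((𝟙 (CohB1.ProjSpaceOver 1 X) : _ ⟶ _).residueFieldMap p).hom
      rw [Scheme.residueFieldMap_id]
      exact Function.surjective_id
    haveI : Algebra.IsAlgebraic
        ((CohB1.ProjSpaceOver 1 X).residueField ((𝟙 (CohB1.ProjSpaceOver 1 X) : _ ⟶ _) p))
        ((CohB1.ProjSpaceOver 1 X).residueField p) :=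
      ⟨fun b => by
        obtain ⟨t, rfl⟩ := hs b
        exact isAlgebraic_algebraMap t⟩
    rw [trdeg_eq_zero]
    rfl, by simp⟩)
  rwa [Category.comp_id] at this

include hX hP in
theorem isSetup_Z : Cyc.IsSetup Z (fun z => δP (ι z)) :=
  isSetup_of_lft ι δP (isSetup_P X δ hX δP hP) _ (deltaCompat_ι X δP Z ι)


theorem fst_comp (i : Fin (1 + 1)) :
    pullback.fst ι (sect X i) ≫ ι ≫ CohB1.ProjSpaceOver.toBase 1 X =
      pullback.snd ι (sect X i) := by
  rw [← Category.assoc, pullback.condition, Category.assoc, sect_toBase, Category.comp_id]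

instance isClosedImmersion_fst_comp (i : Fin (1 + 1)) :
    IsClosedImmersion (pullback.fst ι (sect X i) ≫ ι ≫ CohB1.ProjSpaceOver.toBase 1 X) := by
  rw [fst_comp]
  infer_instance

theorem ι_fst_mem_range (i : Fin (1 + 1)) (z' : ↥(pullback ι (sect X i))) :
    ι (pullback.fst ι (sect X i) z') ∈ Set.range (sect X i) := by
  refine ⟨pullback.snd ι (sect X i) z', ?_⟩
  have := congrArg (fun F : pullback ι (sect X i) ⟶ CohB1.ProjSpaceOver 1 X => F z')
    (pullback.condition (f := ι) (g := sect X i))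
  exact this.symm

/-- the multiplicity function of a scheme -/
noncomputable def cS (Z : Scheme.{u}) (ζ : Z) : ℤ :=
  ((Module.length (Z.presheaf.stalk ζ) (Z.presheaf.stalk ζ)).toNat : ℤ)

include hX hP in
theorem push_formula
    (hZ : ∀ z : Z, δP (ι z) ≤ k + 1)
    (hZ0 : ∀ z : Z, ι z ∈ Set.range ⇑(P1.sect X 0) ∪ Set.range ⇑(P1.sect X 1) → δP (ι z) ≤ k)
    (hemb : ∀ z : Z, IsAssociatedPrime (maximalIdeal (Z.presheaf.stalk z)) (Z.presheaf.stalk z) →
      ι z ∉ Set.range ⇑(P1.sect X 0) ∪ Set.range ⇑(P1.sect X 1) ∨ δP (ι z) < k) :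
    ∃ γ : AlgebraicCycle Z ℤ, Cyc.RatEquivZero (fun z => δP (ι z)) k γ ∧
      (∀ z, γ z = ∑ᶠ i : {ζ : Z // δP (ι ζ) = k + 1 ∧ cS Z ζ ≠ 0},
        cS Z i.1 * Cyc.divFun (fun z => δP (ι z)) i.1 (tau (ι ≫ q X) i.1) z) ∧
      ∀ x, (AlgebraicCycle.map (ι ≫ CohB1.ProjSpaceOver.toBase 1 X) (fun z => δP (ι z)) δ γ) x =
        Cyc.subschemeFun δ k (pullback.snd ι (sect X 0)) x -
          Cyc.subschemeFun δ k (pullback.snd ι (sect X 1)) x := by
  set δZ : Z → ℤ := fun z => δP (ι z) with hδZ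
  have hZs : Cyc.IsSetup Z δZ := isSetup_Z X δ hX δP hP Z ι
  haveI : IsLocallyNoetherian Z := hZs.1
  have hdimZ := hZs.2.2
  set r : Z ⟶ Proj grading.{u} := ι ≫ q X with hr
  set h : Z ⟶ X := ι ≫ CohB1.ProjSpaceOver.toBase 1 X with hh
  have hcompat : Cyc.DeltaCompat h δZ δ :=
    deltaCompat_comp_closedImmersion ι (CohB1.ProjSpaceOver.toBase 1 X) δP δ hP
  have sq₀ := isPullback_fst X ι 0
  have sq₁ := isPullback_fst X ι 1
  have hr0 := range_e sq₀ 1 (by decide)
  have hr1 := range_e sq₁ 0 (by decide)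
  -- points of dimension `k + 1` are in both charts
  have hgen' : ∀ ζ : Z, δZ ζ = k + 1 → ζ ∈ V r 0 ∧ ζ ∈ V r 1 := by
    intro ζ hζ
    constructor
    · by_contra h0
      have : ζ ∈ Set.range (pullback.fst ι (sect X 1)) := by rw [hr1]; exact h0
      obtain ⟨z', rfl⟩ := this
      have := hZ0 _ (Or.inr (ι_fst_mem_range X Z ι 1 z'))
      have h2 : δP (ι (pullback.fst ι (sect X 1) z')) = k + 1 := hζ
      omega
    · by_contra h1
      have : ζ ∈ Set.range (pullback.fst ι (sect X 0)) := by rw [hr0]; exact h1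
      obtain ⟨z', rfl⟩ := this
      have := hZ0 _ (Or.inl (ι_fst_mem_range X Z ι 0 z'))
      have h2 : δP (ι (pullback.fst ι (sect X 0) z')) = k + 1 := hζ
      omega
  have hlf : ∀ z : Z, ∃ U : Set Z, IsOpen U ∧ z ∈ U ∧
      {i : {ζ : Z // δZ ζ = k + 1 ∧ cS Z ζ ≠ 0} | (closure {i.1} ∩ U).Nonempty}.Finite := by
    intro z
    exact locallyFinite_maximal_points (X := Z) Set.univ isClosed_univ
      {ζ : Z | δZ ζ = k + 1 ∧ cS Z ζ ≠ 0} (fun s hs => ⟨trivial, fun y _ hys => by
        by_contra hne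
        have h1 := (hdimZ y s hys hne).1
        have h2 := hZ y
        have h3 : δZ s = k + 1 := hs.1
        have h4 : δZ y ≤ k + 1 := h2
        omega⟩) z
  obtain ⟨γ, hrat, hγ0, hγ01, hγV0, hγV1, hγsum⟩ := core1 r δZ hZs k (cS Z) hlf
    (fun ζ h1 _ => hgen' ζ h1)
  refine ⟨γ, hrat, hγsum, fun x => ?_⟩
  rw [map_apply_core2 h r sq₀ sq₁ δZ δ hcompat γ hγ01 x, sub_eq_add_neg]
  -- the associated-point hypothesis at generizations of a point of the fibre
  have hH : ∀ (z ζ : Z), δZ z = k → ζ ⤳ z →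
      IsAssociatedPrime (maximalIdeal (Z.presheaf.stalk ζ)) (Z.presheaf.stalk ζ) →
      ι ζ ∉ Set.range ⇑(P1.sect X 0) ∪ Set.range ⇑(P1.sect X 1) := by
    intro z ζ hzk hsp hass
    rcases hemb ζ hass with h1 | h1
    · exact h1
    · exfalso
      by_cases hne : ζ = z
      · rw [hne] at h1
        have : δZ z = k := hzk
        have h2 : δP (ι z) = k := this
        omega
      · have h2 := (hdimZ ζ z hsp hne).1
        have h3 : δP (ι z) = k := hzk
        have h4 : δP (ι z) < δP (ι ζ) := h2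
        omega
  congr 1
  · unfold Cyc.subschemeFun
    have hset : {z' : ↥(pullback ι (sect X 0)) | (pullback.fst ι (sect X 0) ≫ h) z' = x} =
        {z' | pullback.snd ι (sect X 0) z' = x} := by
      ext z'
      show (pullback.fst ι (sect X 0) ≫ ι ≫ CohB1.ProjSpaceOver.toBase 1 X) z' = x ↔ _
      rw [fst_comp]
      rfl
    by_cases hxk : δ x = k
    · rw [if_pos hxk, hset]
      apply finsum_mem_congr rfl
      intro z' hz'
      have hz'' : (pullback.fst ι (sect X 0) ≫ h) z' = x := by rw [← hset] at hz'; exact hz'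
      have hδ : δZ (pullback.fst ι (sect X 0) z') = k := by
        rw [delta_eq_of_comp h (pullback.fst ι (sect X 0)) δZ δ hcompat z']
        have : h (pullback.fst ι (sect X 0) z') = x := hz''
        rw [this, hxk]
      have hV0 : pullback.fst ι (sect X 0) z' ∈ V r 0 := e_mem_V sq₀ z'
      have hV1 : pullback.fst ι (sect X 0) z' ∉ V r 1 := by
        have : pullback.fst ι (sect X 0) z' ∈ Set.range (pullback.fst ι (sect X 0)) := ⟨z', rfl⟩
        rw [hr0] at this
        exact this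
      rw [hγV0 _ hV0 hV1 hδ]
      refine ordSum_fibre_struct sq₀ 1 (Or.inl ⟨rfl, rfl⟩) δZ hZs k z' (fun ξ _ => hZ ξ) hδ ?_
      intro ζ hsp hass
      by_contra hζ1
      have : ζ ∈ Set.range (pullback.fst ι (sect X 0)) := by rw [hr0]; exact hζ1
      obtain ⟨z'', rfl⟩ := this
      exact hH _ _ hδ hsp hass (Or.inl (ι_fst_mem_range X Z ι 0 z''))
    · rw [if_neg hxk]
      apply finsum_mem_eq_zero_of_forall_eq_zero
      intro z' hz'
      apply hγ0
      rw [delta_eq_of_comp h (pullback.fst ι (sect X 0)) δZ δ hcompat z']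
      have : h (pullback.fst ι (sect X 0) z') = x := hz'
      rw [this]
      exact hxk
  · unfold Cyc.subschemeFun
    have hset : {z' : ↥(pullback ι (sect X 1)) | (pullback.fst ι (sect X 1) ≫ h) z' = x} =
        {z' | pullback.snd ι (sect X 1) z' = x} := by
      ext z'
      show (pullback.fst ι (sect X 1) ≫ ι ≫ CohB1.ProjSpaceOver.toBase 1 X) z' = x ↔ _
      rw [fst_comp]
      rfl
    by_cases hxk : δ x = k
    · have hfin : {z' : ↥(pullback ι (sect X 1)) | pullback.snd ι (sect X 1) z' = x}.Finite :=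
        Set.Subsingleton.finite (fun a ha b hb =>
          (pullback.snd ι (sect X 1)).isClosedEmbedding.injective (ha.trans hb.symm))
      rw [if_pos hxk, hset, ← finsum_mem_neg_distrib _ hfin]
      apply finsum_mem_congr rfl
      intro z' hz'
      have hz'' : (pullback.fst ι (sect X 1) ≫ h) z' = x := by rw [← hset] at hz'; exact hz'
      have hδ : δZ (pullback.fst ι (sect X 1) z') = k := by
        rw [delta_eq_of_comp h (pullback.fst ι (sect X 1)) δZ δ hcompat z']
        have : h (pullback.fst ι (sect X 1) z') = x := hz''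
        rw [this, hxk]
      have hV1 : pullback.fst ι (sect X 1) z' ∈ V r 1 := e_mem_V sq₁ z'
      have hV0 : pullback.fst ι (sect X 1) z' ∉ V r 0 := by
        have : pullback.fst ι (sect X 1) z' ∈ Set.range (pullback.fst ι (sect X 1)) := ⟨z', rfl⟩
        rw [hr1] at this
        exact this
      rw [hγV1 _ hV1 hV0 hδ]
      congr 1
      refine ordSum_fibre_struct sq₁ 0 (Or.inr ⟨rfl, rfl⟩) δZ hZs k z' (fun ξ _ => hZ ξ) hδ ?_
      intro ζ hsp hass
      by_contra hζ0
      have : ζ ∈ Set.range (pullback.fst ι (sect X 1)) := by rw [hr1]; exact hζ0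
      obtain ⟨z'', rfl⟩ := this
      exact hH _ _ hδ hsp hass (Or.inr (ι_fst_mem_range X Z ι 1 z''))
    · rw [if_neg hxk, neg_zero]
      apply finsum_mem_eq_zero_of_forall_eq_zero
      intro z' hz'
      apply hγ0
      rw [delta_eq_of_comp h (pullback.fst ι (sect X 1)) δZ δ hcompat z']
      have : h (pullback.fst ι (sect X 1) z') = x := hz'
      rw [this]
      exact hxk


include hX hP in
theorem main1902
    (hZ : ∀ z : Z, δP (ι z) ≤ k + 1)
    (hZ0 : ∀ z : Z, ι z ∈ Set.range ⇑(P1.sect X 0) ∪ Set.range ⇑(P1.sect X 1) → δP (ι z) ≤ k)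
    (hemb : ∀ z : Z, IsAssociatedPrime (maximalIdeal (Z.presheaf.stalk z)) (Z.presheaf.stalk z) →
      ι z ∉ Set.range ⇑(P1.sect X 0) ∪ Set.range ⇑(P1.sect X 1) ∨ δP (ι z) < k)
    (α β : AlgebraicCycle X ℤ)
    (hα : ⇑α = Cyc.subschemeFun δ k (pullback.snd ι (P1.sect X 0)))
    (hβ : ⇑β = Cyc.subschemeFun δ k (pullback.snd ι (P1.sect X 1))) :
    Cyc.RatEquiv δ k α β := by
  obtain ⟨γ, hrat, -, hform⟩ := push_formula X δ hX δP hP k Z ι hZ hZ0 hemb
  have hZs : Cyc.IsSetup Z (fun z => δP (ι z)) := isSetup_Z X δ hX δP hP Z ι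
  haveI : IsLocallyNoetherian Z := hZs.1
  haveI : IsLocallyNoetherian X := hX.1
  have hcompat : Cyc.DeltaCompat (ι ≫ CohB1.ProjSpaceOver.toBase 1 X) (fun z => δP (ι z)) δ :=
    deltaCompat_comp_closedImmersion ι (CohB1.ProjSpaceOver.toBase 1 X) δP δ hP
  have hpush := ratEquivZero_map (ι ≫ CohB1.ProjSpaceOver.toBase 1 X) (fun z => δP (ι z)) δ
    hZs.2.2 hX.2.2 hcompat k γ hrat
  unfold Cyc.RatEquiv
  have he : α - β = AlgebraicCycle.map (ι ≫ CohB1.ProjSpaceOver.toBase 1 X)
      (fun z => δP (ι z)) δ γ := by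
    ext x
    rw [hform x]
    show α x - β x = _
    rw [hα, hβ]
  rw [he]
  exact hpush

end main

end Groth.Agent.Lib.Helper18.P1Sub
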