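import Mathlib
import Groth.Agent.Lib.Helper18.P1.Sub
import Groth.Agent.Lib.Helper18.Cyc.PullDivGen
import Groth.Agent.Lib.Helper18.Cyc.GysinFlat

/-!
# The fibres over `0` and `∞` of an integral closed subscheme of `P^1_X`
-/

set_option autoImplicit false
set_option maxHeartbeats 1000000
set_option linter.style.haveILetI false
set_option linter.unusedSectionVars false
universe u
open AlgebraicGeometry CategoryTheory Limits IsLocalRing Pointwise Classical

namespace Groth.Agent.Lib.Helper18.P1Sub

open P1 Groth.Agent.Lib.Helper18.P1Kit Groth.Agent.Lib.Helper18.P1Core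
  Groth.Agent.Lib.Helper18.Push Groth.Agent.Lib.Helper13.StalkSpecLoc
  Groth.Agent.Lib.Helper18.CycPull Groth.Agent.Lib.Helper18.GysinFlat
  Groth.Agent.Lib.Helper18.CycDiv

theorem eq_bot_of_isAssociatedPrime_domain {R : Type*} [CommRing R] [IsDomain R] (I : Ideal R)
    (h : IsAssociatedPrime I R) : I = ⊥ := by
  obtain ⟨hI, x, hx⟩ := h
  by_cases hx0 : x = 0
  · exfalso
    apply hI.ne_top
    rw [hx, hx0]
    have : Submodule.colon (⊥ : Submodule R R) {(0 : R)} = ⊤ := by
      rw [eq_top_iff]
      intro r _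
      rw [Submodule.mem_colon_singleton]
      simp
    rw [this, Ideal.radical_top]
  · rw [hx]
    have : Submodule.colon (⊥ : Submodule R R) {x} = ⊥ := by
      rw [eq_bot_iff]
      intro r hr
      rw [Submodule.mem_colon_singleton] at hr
      have h0 : r • x = 0 := by simpa using hr
      rcases smul_eq_zero.1 h0 with h1 | h1
      · exact h1 ▸ Submodule.zero_mem _
      · exact absurd h1 hx0
    rw [this]
    exact Ideal.radical_bot_of_isReduced

theorem eq_genericPoint_of_isAssociatedPrime {W : Scheme.{u}} [IsIntegral W] (z : W)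
    (h : IsAssociatedPrime (maximalIdeal (W.presheaf.stalk z)) (W.presheaf.stalk z)) :
    z = genericPoint W := by
  have hbot : maximalIdeal (W.presheaf.stalk z) = ⊥ := eq_bot_of_isAssociatedPrime_domain _ h
  have hsp : genericPoint W ⤳ z := genericPoint_specializes z
  have h1 : primeOf hsp = ⊥ := by
    rw [eq_bot_iff, ← hbot]
    exact IsLocalRing.le_maximalIdeal (Ideal.IsPrime.ne_top inferInstance)
  have h2 : primeOf (specializes_rfl : z ⤳ z) = ⊥ := by
    rw [primeOf_rfl, hbot]
  exact (eq_of_primeOf_eq hsp specializes_rfl (h1.trans h2.symm)).symm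


section main

variable (X : Scheme.{u}) (δ : X → ℤ) (hX : Cyc.IsSetup X δ)
  (δP : ↥(CohB1.ProjSpaceOver 1 X) → ℤ)
  (hP : Cyc.DeltaCompat (CohB1.ProjSpaceOver.toBase 1 X) δP δ) (k : ℤ)

include hX hP in
theorem main1900 (W : Scheme.{u}) [IsIntegral W] (ι : W ⟶ CohB1.ProjSpaceOver 1 X)
    [IsClosedImmersion ι] (hW : δP (ι (genericPoint W)) = k + 1)
    (h0 : ι (genericPoint W) ∉ Set.range ⇑(P1.sect X 0))
    (h1 : ι (genericPoint W) ∉ Set.range ⇑(P1.sect X 1)) (α β : AlgebraicCycle X ℤ)
    (hα : ⇑α = Cyc.subschemeFun δ k (pullback.snd ι (P1.sect X 0)))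
    (hβ : ⇑β = Cyc.subschemeFun δ k (pullback.snd ι (P1.sect X 1))) :
    Cyc.RatEquiv δ k α β := by
  have hPs := isSetup_P X δ hX δP hP
  have hdimP := hPs.2.2
  have hle : ∀ z : W, ι z ≠ ι (genericPoint W) → δP (ι z) < k + 1 := by
    intro z hne
    have hsp : ι (genericPoint W) ⤳ ι z := (genericPoint_specializes z).map ι.continuous
    have := (hdimP _ _ hsp (Ne.symm hne)).1
    omega
  refine main1902 X δ hX δP hP k W ι ?_ ?_ ?_ α β hα hβ
  · intro z
    by_cases hz : ι z = ι (genericPoint W)
    · rw [hz, hW]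
    · exact (hle z hz).le
  · intro z hz
    have hne : ι z ≠ ι (genericPoint W) := by
      intro he
      rw [he] at hz
      rcases hz with hz | hz
      · exact h0 hz
      · exact h1 hz
    have := hle z hne
    omega
  · intro z hass
    left
    rw [eq_genericPoint_of_isAssociatedPrime z hass]
    rintro (hz | hz)
    · exact h0 hz
    · exact h1 hz

end main

end Groth.Agent.Lib.Helper18.P1Sub
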