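import Mathlib
import Groth.Agent.Lib.Helper18.P1.Graph
import Groth.Agent.Lib.Helper18.P1.Int
import Groth.Agent.Lib.Helper18.Push.PushDiv
import Groth.Agent.Lib.Helper18.Bivar.Envelope
import Groth.Agent.Lib.Helper18.GenFin
import Groth.Agent.Lib.Helper13.SectionExt

/-!
# The divisor of a rational function as the difference of the fibres over `0` and `∞` of the
closure of its graph in `P^1_X`
-/

set_option autoImplicit false
set_option maxHeartbeats 1000000
set_option linter.style.haveILetI false
set_option linter.unusedSectionVars false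
universe u
open AlgebraicGeometry CategoryTheory Limits IsLocalRing Pointwise Classical

namespace Groth.Agent.Lib.Helper18.P1Graph

open P1 Groth.Agent.Lib.Helper18.P1Kit Groth.Agent.Lib.Helper18.P1Core
  Groth.Agent.Lib.Helper18.P1Sub Groth.Agent.Lib.Helper18.Push

theorem length_self_of_isField (R : Type*) [CommRing R] (h : IsField R) :
    Module.length R R = 1 := by
  rw [Module.length_eq_one_iff]
  letI := h.toField
  infer_instance

theorem cS_genericPoint (Y : Scheme.{u}) [IsIntegral Y] : cS Y (genericPoint Y) = 1 := by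
  unfold cS
  have hf : IsField (Y.presheaf.stalk (genericPoint Y)) :=
    Field.toIsField (Y.functionField)
  rw [length_self_of_isField _ hf]
  rfl

/-- the norm of `tau` at the image of a point of `U` -/
theorem normGen_tau {X Y : Scheme.{u}} (U : X.Opens) (f : Γ(X, U)) (r : Y ⟶ Proj grading.{u})
    (p : Y ⟶ X) (Tm : (↑U : Scheme.{u}) ⟶ Y) (hp : Tm ≫ p = U.ι) (hr : Tm ≫ r = gq X U f)
    (u : (↑U : Scheme.{u})) (y : Y) (hy : y = Tm u) (hyU : p y ∈ U) :
    Cyc.normGen p y (tau r y) = (X.evaluation U (p y) hyU).hom f := by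
  subst hy
  rw [tau_eq U f r p Tm hp hr u]
  exact normGen_of_surjective p (Tm u)
    (residueFieldMap_surjective_of_comp_openImmersion p Tm U.ι hp u) _

section main

variable (X : Scheme.{u}) [IsIntegral X] (δ : X → ℤ) (hX : Cyc.IsSetup X δ) (n : ℤ)
  (hn : δ (genericPoint X) = n) (U : X.Opens) (hη : genericPoint X ∈ U) (f : Γ(X, U))
  (hf : IsUnit f)

include hX hn hf in
theorem main1904_aux (Y : Scheme.{u}) [IsIntegral Y] (ι : Y ⟶ CohB1.ProjSpaceOver 1 X)
    [IsClosedImmersion ι] (Tm : (↑U : Scheme.{u}) ⟶ Y) (hd : Dense (Set.range Tm))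
    (hT : Tm ≫ ι = P1.graph X U f) :
    Cyc.divFun δ (genericPoint X) ((X.evaluation U (genericPoint X) hη).hom f) =
      fun x => Cyc.subschemeFun δ (n - 1) (pullback.snd ι (P1.sect X 0)) x -
        Cyc.subschemeFun δ (n - 1) (pullback.snd ι (P1.sect X 1)) x := by
  haveI : IsLocallyNoetherian X := hX.1
  haveI : Nonempty U := ⟨⟨genericPoint X, hη⟩⟩
  obtain ⟨δP, hP⟩ := Groth.Agent.Lib.Helper18.BivarEnv.exists_deltaCompat
    (CohB1.ProjSpaceOver.toBase 1 X) δ
  set p : Y ⟶ X := ι ≫ CohB1.ProjSpaceOver.toBase 1 X with hp_def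
  set r : Y ⟶ Proj grading.{u} := ι ≫ q X with hr_def
  set δY : Y → ℤ := fun z => δP (ι z) with hδY
  have hp : Tm ≫ p = U.ι := by
    rw [hp_def, ← Category.assoc, hT, graph_toBase]
  have hr : Tm ≫ r = gq X U f := by
    rw [hr_def, ← Category.assoc, hT, graph_q]
  have hYs : Cyc.IsSetup Y δY := isSetup_Z X δ hX δP hP Y ι
  haveI : IsLocallyNoetherian Y := hYs.1
  have hdimY := hYs.2.2
  have hcompat : Cyc.DeltaCompat p δY δ :=
    deltaCompat_comp_closedImmersion ι (CohB1.ProjSpaceOver.toBase 1 X) δP δ hP
  set u₀ : (↑U : Scheme.{u}) := genericPoint (↑U : Scheme.{u}) with hu₀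
  have hTu : Tm u₀ = genericPoint Y :=
    Groth.Agent.Lib.Helper18.GenFin.map_genericPoint_of_dense Tm hd
  have hιu : U.ι u₀ = genericPoint X := genericPoint_eq_of_isOpenImmersion U.ι
  have hpη : p (genericPoint Y) = genericPoint X := by
    rw [← hTu, ← hιu, ← hp]
    rfl
  have hsurj : Function.Surjective (p.residueFieldMap (genericPoint Y)).hom := by
    rw [← hTu]
    exact residueFieldMap_surjective_of_comp_openImmersion p Tm U.ι hp u₀
  have hδη : δY (genericPoint Y) = n := by
    rw [delta_eq_of_surjective p δY δ hcompat _ hsurj, hpη, hn]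
  have hV0 : genericPoint Y ∈ V r 0 := by
    rw [← hTu]
    exact T_mem_V U f r Tm hr u₀
  have hV1 : genericPoint Y ∈ V r 1 := by
    rw [← hTu]
    exact T_mem_V1 U f r Tm hr hf u₀
  have h0 : ι (genericPoint Y) ∉ Set.range ⇑(P1.sect X 0) := by
    rw [range_e (isPullback_sect X 0) 1 (by decide)]
    intro hc
    exact hc hV1
  have h1 : ι (genericPoint Y) ∉ Set.range ⇑(P1.sect X 1) := by
    rw [range_e (isPullback_sect X 1) 0 (by decide)]
    intro hc
    exact hc hV0
  have hle : ∀ z : Y, z ≠ genericPoint Y → δY z < n := by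
    intro z hne
    have hsp : genericPoint Y ⤳ z := genericPoint_specializes z
    have := (hdimY _ _ hsp (Ne.symm hne)).1
    omega
  obtain ⟨γ, -, hγ, hpush⟩ := push_formula X δ hX δP hP (n - 1) Y ι
    (by
      intro z
      by_cases hz : z = genericPoint Y
      · rw [hz]
        have : δP (ι (genericPoint Y)) = n := hδη
        omega
      · have : δP (ι z) < n := hle z hz
        omega)
    (by
      intro z hz
      have hne : z ≠ genericPoint Y := by
        rintro rfl
        rcases hz with hz | hz
        · exact h0 hz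
        · exact h1 hz
      have : δP (ι z) < n := hle z hne
      omega)
    (by
      intro z hass
      left
      rw [eq_genericPoint_of_isAssociatedPrime z hass]
      rintro (hz | hz)
      · exact h0 hz
      · exact h1 hz)
  -- `γ` is the divisor of `tau` at the generic point
  have hγ' : ⇑γ = Cyc.divFun δY (genericPoint Y) (tau r (genericPoint Y)) := by
    funext z
    rw [hγ z]
    have hmem : δP (ι (genericPoint Y)) = n - 1 + 1 ∧ cS Y (genericPoint Y) ≠ 0 := by
      refine ⟨?_, ?_⟩
      · have : δP (ι (genericPoint Y)) = n := hδη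
        omega
      · rw [cS_genericPoint]
        exact one_ne_zero
    rw [finsum_eq_single _ (⟨genericPoint Y, hmem⟩ :
      {ζ : Y // δP (ι ζ) = n - 1 + 1 ∧ cS Y ζ ≠ 0})]
    · show cS Y (genericPoint Y) * _ = _
      rw [cS_genericPoint, one_mul]
    · intro i hi
      exfalso
      apply hi
      apply Subtype.ext
      by_contra hne
      have h1 : δP (ι i.1) < n := hle i.1 hne
      have h2 := i.2.1
      omega
  have htau0 : tau r (genericPoint Y) ≠ 0 := tau_ne_zero r _ hV0 hV1
  haveI : IsProper p := by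
    rw [hp_def]
    infer_instance
  have hmap : ∀ x, (AlgebraicCycle.map p δY δ γ) x =
      Cyc.divFun δ (p (genericPoint Y)) (Cyc.normGen p (genericPoint Y) (tau r (genericPoint Y)))
        x := by
    intro x
    simp only [AlgebraicCycle.map, Function.locallyFinsupp.map_apply]
    rw [hγ']
    exact push_divFun_eq_divFun_norm δY δ hdimY hX.2.2 p hcompat hpη (hδη.trans (hn.symm))
      (tau r (genericPoint Y)) htau0 x
  have hpU : p (genericPoint Y) ∈ U := by
    rw [hpη]; exact hη
  have hnorm := normGen_tau U f r p Tm hp hr u₀ (genericPoint Y) hTu.symm hpU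
  funext x
  rw [← hpush x, hmap x, hnorm]
  exact (congrFun (divFun_evaluation_congr δ U f _ _ hpη hpU hη) x).symm

end main

end Groth.Agent.Lib.Helper18.P1Graph
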