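import Mathlib
import Groth.Prelude.Def_P1
import Groth.Agent.Lib.Helper18.P1.Sect

set_option autoImplicit false
universe u
open AlgebraicGeometry CategoryTheory CategoryTheory.Limits

namespace Groth.Agent.Lib.Helper18.P1Kit

open P1

variable {Z X : Scheme.{u}} (j : Z ⟶ X)

theorem toP1_q : toP1 j ≫ q X = q Z := by
  unfold toP1 q
  exact (pullback.lift_fst _ _ _).trans (Category.comp_id _)

theorem toP1_toBase : toP1 j ≫ CohB1.ProjSpaceOver.toBase 1 X =
    CohB1.ProjSpaceOver.toBase 1 Z ≫ j := by
  unfold toP1 CohB1.ProjSpaceOver.toBase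
  exact pullback.lift_snd _ _ _

theorem sect_toP1 (i : Fin (1 + 1)) : sect Z i ≫ toP1 j = j ≫ sect X i := by
  apply pullback.hom_ext
  · show (sect Z i ≫ toP1 j) ≫ q X = (j ≫ sect X i) ≫ q X
    rw [Category.assoc, toP1_q, sect_q, Category.assoc, sect_q, ← Category.assoc]
    congr 1
    exact specULiftZIsTerminal.hom_ext _ _
  · show (sect Z i ≫ toP1 j) ≫ CohB1.ProjSpaceOver.toBase 1 X =
      (j ≫ sect X i) ≫ CohB1.ProjSpaceOver.toBase 1 X
    rw [Category.assoc, toP1_toBase, ← Category.assoc, sect_toBase, Category.assoc, sect_toBase,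
      Category.id_comp, Category.comp_id]

theorem isPullback_toP1 :
    IsPullback (toP1 j) (CohB1.ProjSpaceOver.toBase 1 Z) (CohB1.ProjSpaceOver.toBase 1 X) j := by
  have big : IsPullback (toP1 j ≫ q X) (CohB1.ProjSpaceOver.toBase 1 Z)
      (CohB1.ProjSpace.toSpec 1 R0.{u}) (j ≫ specULiftZIsTerminal.from X) := by
    rw [toP1_q, show j ≫ specULiftZIsTerminal.from X = specULiftZIsTerminal.from Z from
      specULiftZIsTerminal.hom_ext _ _]
    exact IsPullback.of_hasPullback _ _
  have right : IsPullback (q X) (CohB1.ProjSpaceOver.toBase 1 X)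
      (CohB1.ProjSpace.toSpec 1 R0.{u}) (specULiftZIsTerminal.from X) :=
    IsPullback.of_hasPullback _ _
  exact IsPullback.of_right big (toP1_toBase j) right

instance isClosedImmersion_toP1 [IsClosedImmersion j] : IsClosedImmersion (toP1 j) :=
  MorphismProperty.of_isPullback (P := @IsClosedImmersion) (isPullback_toP1 j).flip inferInstance

theorem isPullback_sect_toP1 (i : Fin (1 + 1)) :
    IsPullback (sect Z i) j (toP1 j) (sect X i) := by
  have big : IsPullback (sect Z i ≫ CohB1.ProjSpaceOver.toBase 1 Z) j j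
      (sect X i ≫ CohB1.ProjSpaceOver.toBase 1 X) := by
    rw [sect_toBase, sect_toBase]
    exact IsPullback.of_horiz_isIso ⟨by simp⟩
  exact IsPullback.of_right big (sect_toP1 j i) (isPullback_toP1 j).flip

end Groth.Agent.Lib.Helper18.P1Kit
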