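import Mathlib
import Groth.Prelude.Def_Cyc
import Groth.Agent.Lib.Helper18.Cyc.DivTransfer
import Groth.Agent.Lib.Helper18.FieldBC.LengthAlg

set_option autoImplicit false
universe u
open AlgebraicGeometry CategoryTheory CategoryTheory.Limits

namespace Groth.Agent.Lib.Helper18.P1Transfer

open Groth.Agent.Lib.Helper18.CycDiv

variable {X : Scheme.{u}}

/-- the cycle of a subscheme only depends on the subscheme up to isomorphism -/
theorem subschemeFun_iso_comp (δ : X → ℤ) (k : ℤ) {A A' : Scheme.{u}} (e : A ⟶ A') [IsIso e]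
    (s : A' ⟶ X) : Cyc.subschemeFun δ k (e ≫ s) = Cyc.subschemeFun δ k s := by
  funext x
  unfold Cyc.subschemeFun
  by_cases hx : δ x = k
  · rw [if_pos hx, if_pos hx]
    have hbij : Function.Bijective e := (e.homeomorph).bijective
    refine finsum_mem_eq_of_bijOn (fun a => e a) ?_ ?_
    · refine ⟨?_, hbij.1.injOn, ?_⟩
      · intro a ha
        exact ha
      · intro a' ha'
        obtain ⟨a, rfl⟩ := hbij.2 a'
        exact ⟨a, ha', rfl⟩
    · intro a _
      have hiso : IsIso (e.stalkMap a) := inferInstance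
      have hb : Function.Bijective (e.stalkMap a).hom := ConcreteCategory.bijective_of_isIso _
      have := Groth.Agent.Lib.Helper18.FieldBC.length_self_eq_of_ringEquiv
        (RingEquiv.ofBijective (e.stalkMap a).hom hb)
      rw [this]
  · rw [if_neg hx, if_neg hx]

/-- the cycle of a subscheme of a closed subscheme -/
theorem subschemeFun_comp_injective (δ : X → ℤ) (k : ℤ) {A Z : Scheme.{u}} (s : A ⟶ Z)
    (j : Z ⟶ X) (hj : Function.Injective j) (z : Z) :
    Cyc.subschemeFun δ k (s ≫ j) (j z) = Cyc.subschemeFun (fun z => δ (j z)) k s z := by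
  unfold Cyc.subschemeFun
  by_cases hx : δ (j z) = k
  · rw [if_pos hx, if_pos hx]
    apply finsum_mem_congr
    · ext a
      simp only [Set.mem_ofPred_eq]
      constructor
      · intro h
        exact hj h
      · intro h
        show j (s a) = j z
        rw [h]
    · intro _ _
      rfl
  · rw [if_neg hx, if_neg hx]

theorem subschemeFun_comp_of_notMem_range (δ : X → ℤ) (k : ℤ) {A Z : Scheme.{u}} (s : A ⟶ Z)
    (j : Z ⟶ X) (x : X) (hx : x ∉ Set.range j) :
    Cyc.subschemeFun δ k (s ≫ j) x = 0 := by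
  unfold Cyc.subschemeFun
  split_ifs
  · apply finsum_mem_eq_zero_of_forall_eq_zero
    intro a ha
    exfalso
    exact hx ⟨s a, ha⟩
  · rfl

/-- the divisor of a rational function on a closed subscheme -/
theorem divFun_closedImmersion (δ : X → ℤ) {Z : Scheme.{u}} (j : Z ⟶ X) [IsClosedImmersion j]
    (ζ : Z) (g : X.residueField (j ζ)) (z : Z) :
    Cyc.divFun δ (j ζ) g (j z) =
      Cyc.divFun (fun z => δ (j z)) ζ ((j.residueFieldMap ζ).hom g) z := by
  unfold Cyc.divFun
  have hsp : j ζ ⤳ j z ↔ ζ ⤳ z := j.isClosedEmbedding.isInducing.specializes_iff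
  by_cases h : ζ ⤳ z ∧ δ (j z) + 1 = δ (j ζ)
  · rw [dif_pos h, dif_pos ⟨hsp.2 h.1, h.2⟩]
    exact ordAt_map_eq j h.1 (hsp.2 h.1) (j.stalkMap_surjective z) (j.stalkMap_surjective ζ) g
  · rw [dif_neg h, dif_neg]
    rintro ⟨h1, h2⟩
    exact h ⟨hsp.1 h1, h2⟩

theorem divFun_of_notMem_range (δ : X → ℤ) {Z : Scheme.{u}} (j : Z ⟶ X) [IsClosedImmersion j]
    (ζ : Z) (g : X.residueField (j ζ)) (x : X) (hx : x ∉ Set.range j) :
    Cyc.divFun δ (j ζ) g x = 0 := by
  unfold Cyc.divFun
  rw [dif_neg]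
  rintro ⟨h1, -⟩
  apply hx
  have hcl : IsClosed (Set.range j) := j.isClosedEmbedding.isClosed_range
  exact h1.mem_closed hcl ⟨ζ, rfl⟩

end Groth.Agent.Lib.Helper18.P1Transfer
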