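import Mathlib
import Groth.Agent.Lib.Helper18.P1.GraphMain
import Groth.Agent.Lib.Helper18.P1.ToP1
import Groth.Agent.Lib.Helper18.P1.Transfer
import Groth.Agent.Lib.Helper18.Cyc.ClSub

set_option autoImplicit false
set_option maxHeartbeats 1000000
set_option linter.style.haveILetI false
set_option linter.unusedSectionVars false
universe u
open AlgebraicGeometry CategoryTheory Limits IsLocalRing Pointwise Classical

namespace Groth.Agent.Lib.Helper18.P1Family

open P1 Groth.Agent.Lib.Helper18.P1Kit Groth.Agent.Lib.Helper18.P1Core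
  Groth.Agent.Lib.Helper18.P1Sub Groth.Agent.Lib.Helper18.Push
  Groth.Agent.Lib.Helper18.P1Graph Groth.Agent.Lib.Helper18.P1Transfer
  Groth.Agent.Lib.Helper18.CycDiv

/-- a nonzero rational function on an integral scheme is a unit on some nonempty open -/
theorem exists_unit_section (Z : Scheme.{u}) [IsIntegral Z] (g : Z.residueField (genericPoint Z))
    (hg : g ≠ 0) : ∃ (U : Z.Opens) (hη : genericPoint Z ∈ U) (f : Γ(Z, U)), IsUnit f ∧
      (Z.evaluation U (genericPoint Z) hη).hom f = g := by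
  obtain ⟨s, rfl⟩ := IsLocalRing.residue_surjective g
  obtain ⟨U₀, hη₀, f₀, rfl⟩ := TopCat.Presheaf.exists_germ_eq Z.presheaf (x := genericPoint Z) s
  have hu : IsUnit ((Z.presheaf.germ U₀ (genericPoint Z) hη₀).hom f₀) := by
    by_contra hnu
    apply hg
    exact (IsLocalRing.residue_eq_zero_iff _).2 ((mem_maximalIdeal _).2 hnu)
  have hmem : genericPoint Z ∈ Z.basicOpen f₀ := (Z.mem_basicOpen f₀ _ hη₀).2 hu
  refine ⟨Z.basicOpen f₀, hmem, (Z.presheaf.map (homOfLE (Z.basicOpen_le f₀)).op).hom f₀,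
    RingedSpace.isUnit_res_basicOpen _ f₀, ?_⟩
  unfold Scheme.evaluation
  simp only [CommRingCat.comp_apply]
  congr 1
  exact TopCat.Presheaf.germ_res_apply Z.presheaf (homOfLE (Z.basicOpen_le f₀)) _ hmem f₀

/-- basic facts on the generic point of the closure of a graph -/
theorem graph_facts (X : Scheme.{u}) [IsIntegral X] (U : X.Opens) (hη : genericPoint X ∈ U)
    (f : Γ(X, U)) (hf : IsUnit f) (Y : Scheme.{u}) [IsIntegral Y]
    (ι : Y ⟶ CohB1.ProjSpaceOver 1 X) (Tm : (↑U : Scheme.{u}) ⟶ Y) (hd : Dense (Set.range Tm))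
    (hT : Tm ≫ ι = P1.graph X U f) :
    genericPoint Y ∈ V (ι ≫ q X) 0 ∧ genericPoint Y ∈ V (ι ≫ q X) 1 ∧
    (ι ≫ CohB1.ProjSpaceOver.toBase 1 X) (genericPoint Y) = genericPoint X ∧
    Function.Surjective
      ((ι ≫ CohB1.ProjSpaceOver.toBase 1 X).residueFieldMap (genericPoint Y)).hom := by
  haveI : Nonempty U := ⟨⟨genericPoint X, hη⟩⟩
  set p : Y ⟶ X := ι ≫ CohB1.ProjSpaceOver.toBase 1 X with hp_def
  set r : Y ⟶ Proj grading.{u} := ι ≫ q X with hr_def
  have hp : Tm ≫ p = U.ι := by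
    rw [hp_def, ← Category.assoc, hT, graph_toBase]
  have hr : Tm ≫ r = gq X U f := by
    rw [hr_def, ← Category.assoc, hT, graph_q]
  set u₀ : (↑U : Scheme.{u}) := genericPoint (↑U : Scheme.{u}) with hu₀
  have hTu : Tm u₀ = genericPoint Y :=
    Groth.Agent.Lib.Helper18.GenFin.map_genericPoint_of_dense Tm hd
  have hιu : U.ι u₀ = genericPoint X := genericPoint_eq_of_isOpenImmersion U.ι
  refine ⟨?_, ?_, ?_, ?_⟩
  · rw [← hTu]
    exact T_mem_V U f r Tm hr u₀
  · rw [← hTu]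
    exact T_mem_V1 U f r Tm hr hf u₀
  · rw [← hTu, ← hιu, ← hp]
    rfl
  · rw [← hTu]
    exact residueFieldMap_surjective_of_comp_openImmersion p Tm U.ι hp u₀

theorem surjective_residueFieldMap_comp {A B C : Scheme.{u}} (f : A ⟶ B) (g : B ⟶ C) (a : A)
    (hf : Function.Surjective (f.residueFieldMap a).hom)
    (hg : Function.Surjective (g.residueFieldMap (f a)).hom) :
    Function.Surjective ((f ≫ g).residueFieldMap a).hom := by
  rw [Scheme.residueFieldMap_comp]
  exact hf.comp hg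

theorem surjective_residueFieldMap_of_comp {A B C : Scheme.{u}} (f : A ⟶ B) (g : B ⟶ C) (a : A)
    (h : Function.Surjective ((f ≫ g).residueFieldMap a).hom) :
    Function.Surjective (g.residueFieldMap (f a)).hom := by
  rw [Scheme.residueFieldMap_comp] at h
  intro b
  obtain ⟨t, ht⟩ := h ((f.residueFieldMap a).hom b)
  refine ⟨t, ?_⟩
  apply (f.residueFieldMap a).hom.injective
  rw [← ht]
  rfl

theorem surjective_residueFieldMap_closedImmersion {Z X : Scheme.{u}} (j : Z ⟶ X)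
    [IsClosedImmersion j] (z : Z) : Function.Surjective (j.residueFieldMap z).hom :=
  (residueFieldMap_bijective_of_surjective j z (j.stalkMap_surjective z)).2

theorem deltaCompat_closedImmersion {Z X : Scheme.{u}} (j : Z ⟶ X) [IsClosedImmersion j]
    (δ : X → ℤ) : Cyc.DeltaCompat j (fun z => δ (j z)) δ := by
  intro z
  refine ⟨0, ?_, by simp⟩
  letI := (j.residueFieldMap z).hom.toAlgebra
  have hs : Function.Surjective (algebraMap (X.residueField (j z)) (Z.residueField z)) :=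
    surjective_residueFieldMap_closedImmersion j z
  haveI : Algebra.IsAlgebraic (X.residueField (j z)) (Z.residueField z) :=
    ⟨fun b => by
      obtain ⟨t, rfl⟩ := hs b
      exact isAlgebraic_algebraMap t⟩
  rw [trdeg_eq_zero]
  rfl

theorem subschemeFun_toP1 {X Z Y : Scheme.{u}} (δ : X → ℤ) (k : ℤ) (j : Z ⟶ X)
    [IsClosedImmersion j] (gι : Y ⟶ CohB1.ProjSpaceOver 1 Z) (i : Fin (1 + 1)) :
    (∀ z : Z, Cyc.subschemeFun δ k (pullback.snd (gι ≫ toP1 j) (sect X i)) (j z) =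
      Cyc.subschemeFun (fun z => δ (j z)) k (pullback.snd gι (sect Z i)) z) ∧
    (∀ x : X, x ∉ Set.range j →
      Cyc.subschemeFun δ k (pullback.snd (gι ≫ toP1 j) (sect X i)) x = 0) := by
  have sq : IsPullback (pullback.fst gι (sect Z i)) (pullback.snd gι (sect Z i) ≫ j)
      (gι ≫ toP1 j) (sect X i) :=
    (IsPullback.of_hasPullback gι (sect Z i)).paste_vert (isPullback_sect_toP1 j i)
  have hsnd : sq.isoPullback.hom ≫ pullback.snd _ _ = pullback.snd gι (sect Z i) ≫ j :=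
    sq.isoPullback_hom_snd
  have hrw : pullback.snd (gι ≫ toP1 j) (sect X i) =
      sq.isoPullback.inv ≫ (pullback.snd gι (sect Z i) ≫ j) := by
    exact (Iso.eq_inv_comp _).2 hsnd
  rw [hrw, subschemeFun_iso_comp]
  exact ⟨fun z => subschemeFun_comp_injective δ k _ j j.isClosedEmbedding.injective z,
    fun x hx => subschemeFun_comp_of_notMem_range δ k _ j x hx⟩

section single

variable (X : Scheme.{u}) (δ : X → ℤ) (hX : Cyc.IsSetup X δ)
  (δP : ↥(CohB1.ProjSpaceOver 1 X) → ℤ)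
  (hP : Cyc.DeltaCompat (CohB1.ProjSpaceOver.toBase 1 X) δP δ) (k : ℤ)

include hP in
theorem single_aux (Z : Scheme.{u}) [IsIntegral Z] (j : Z ⟶ X) [IsClosedImmersion j]
    (hk : δ (j (genericPoint Z)) = k + 1) (g : X.residueField (j (genericPoint Z)))
    (Y : Scheme.{u}) [IsIntegral Y] (gι : Y ⟶ CohB1.ProjSpaceOver 1 Z) [IsClosedImmersion gι]
    (main : Cyc.divFun (fun z => δ (j z)) (genericPoint Z)
        ((j.residueFieldMap (genericPoint Z)).hom g) =
      fun z => Cyc.subschemeFun (fun z => δ (j z)) k (pullback.snd gι (P1.sect Z 0)) z -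
        Cyc.subschemeFun (fun z => δ (j z)) k (pullback.snd gι (P1.sect Z 1)) z)
    (hV0 : genericPoint Y ∈ V (gι ≫ q Z) 0) (hV1 : genericPoint Y ∈ V (gι ≫ q Z) 1)
    (hpη : (gι ≫ CohB1.ProjSpaceOver.toBase 1 Z) (genericPoint Y) = genericPoint Z)
    (hsurj : Function.Surjective
      ((gι ≫ CohB1.ProjSpaceOver.toBase 1 Z).residueFieldMap (genericPoint Y)).hom) :
    δP ((gι ≫ toP1 j) (genericPoint Y)) = k + 1 ∧
      (gι ≫ toP1 j) (genericPoint Y) ∉ Set.range ⇑(P1.sect X 0) ∧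
      (gι ≫ toP1 j) (genericPoint Y) ∉ Set.range ⇑(P1.sect X 1) ∧
      (∀ w : Y, CohB1.ProjSpaceOver.toBase 1 X ((gι ≫ toP1 j) w) ∈ Set.range j) ∧
      ∀ x : X, Cyc.divFun δ (j (genericPoint Z)) g x =
        Cyc.subschemeFun δ k (pullback.snd (gι ≫ toP1 j) (P1.sect X 0)) x -
          Cyc.subschemeFun δ k (pullback.snd (gι ≫ toP1 j) (P1.sect X 1)) x := by
  have hcomp : (gι ≫ toP1 j) ≫ CohB1.ProjSpaceOver.toBase 1 X =
      (gι ≫ CohB1.ProjSpaceOver.toBase 1 Z) ≫ j := by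
    rw [Category.assoc, toP1_toBase, Category.assoc]
  have hcompq : (gι ≫ toP1 j) ≫ q X = gι ≫ q Z := by
    rw [Category.assoc, toP1_q]
  have hpt : ∀ w : Y, CohB1.ProjSpaceOver.toBase 1 X ((gι ≫ toP1 j) w) =
      j ((gι ≫ CohB1.ProjSpaceOver.toBase 1 Z) w) := fun w =>
    congrArg (fun F : Y ⟶ X => F w) hcomp
  have hptq : ∀ w : Y, q X ((gι ≫ toP1 j) w) = (gι ≫ q Z) w := fun w =>
    congrArg (fun F : Y ⟶ Proj grading.{u} => F w) hcompq
  refine ⟨?_, ?_, ?_, ?_, ?_⟩
  · have hs1 : Function.Surjective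
        (((gι ≫ toP1 j) ≫ CohB1.ProjSpaceOver.toBase 1 X).residueFieldMap (genericPoint Y)).hom := by
      rw [hcomp]
      exact surjective_residueFieldMap_comp _ _ _ hsurj
        (surjective_residueFieldMap_closedImmersion j _)
    have hs2 := surjective_residueFieldMap_of_comp _ _ _ hs1
    rw [P1Graph.delta_eq_of_surjective (CohB1.ProjSpaceOver.toBase 1 X) δP δ hP _ hs2, hpt, hpη, hk]
  · rw [range_e (isPullback_sect X 0) 1 (by decide)]
    intro hc
    apply hc
    show q X ((gι ≫ toP1 j) (genericPoint Y)) ∈ D 1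
    rw [hptq]
    exact hV1
  · rw [range_e (isPullback_sect X 1) 0 (by decide)]
    intro hc
    apply hc
    show q X ((gι ≫ toP1 j) (genericPoint Y)) ∈ D 0
    rw [hptq]
    exact hV0
  · intro w
    rw [hpt]
    exact ⟨_, rfl⟩
  · intro x
    obtain ⟨t0, t0'⟩ := subschemeFun_toP1 δ k j gι 0
    obtain ⟨t1, t1'⟩ := subschemeFun_toP1 δ k j gι 1
    by_cases hx : x ∈ Set.range j
    · obtain ⟨z, rfl⟩ := hx
      rw [divFun_closedImmersion δ j (genericPoint Z) g z, t0, t1]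
      exact congrFun main z
    · rw [divFun_of_notMem_range δ j _ g x hx, t0' x hx, t1' x hx, sub_zero]

include hX hP in
theorem single (Z : Scheme.{u}) [IsIntegral Z] (j : Z ⟶ X) [IsClosedImmersion j]
    (hk : δ (j (genericPoint Z)) = k + 1) (g : X.residueField (j (genericPoint Z)))
    (hg : g ≠ 0) :
    ∃ (W : Scheme.{u}) (ι : W ⟶ CohB1.ProjSpaceOver 1 X) (_ : IsIntegral W)
      (_ : IsClosedImmersion ι),
      δP (ι (genericPoint W)) = k + 1 ∧ ι (genericPoint W) ∉ Set.range ⇑(P1.sect X 0) ∧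
      ι (genericPoint W) ∉ Set.range ⇑(P1.sect X 1) ∧
      (∀ w : W, CohB1.ProjSpaceOver.toBase 1 X (ι w) ∈ Set.range j) ∧
      ∀ x : X, Cyc.divFun δ (j (genericPoint Z)) g x =
        Cyc.subschemeFun δ k (pullback.snd ι (P1.sect X 0)) x -
          Cyc.subschemeFun δ k (pullback.snd ι (P1.sect X 1)) x := by
  haveI : IsLocallyNoetherian X := hX.1
  set δZ : Z → ℤ := fun z => δ (j z) with hδZ
  have hZs : Cyc.IsSetup Z δZ := isSetup_of_lft j δ hX δZ (deltaCompat_closedImmersion j δ)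
  haveI : IsLocallyNoetherian Z := hZs.1
  set gZ : Z.residueField (genericPoint Z) := (j.residueFieldMap (genericPoint Z)).hom g with hgZdef
  have hgZ : gZ ≠ 0 := (map_ne_zero _).2 hg
  obtain ⟨U, hη, f, hf, hev⟩ := exists_unit_section Z gZ hgZ
  haveI : Nonempty U := ⟨⟨_, hη⟩⟩
  haveI qc1 : QuasiCompact (P1.graph Z U f ≫ CohB1.ProjSpaceOver.toBase 1 Z) := by
    rw [graph_toBase]
    infer_instance
  haveI qc : QuasiCompact (P1.graph Z U f) :=
    QuasiCompact.of_comp (P1.graph Z U f) (CohB1.ProjSpaceOver.toBase 1 Z)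
  haveI : IsIntegral (P1.graph Z U f).image :=
    Groth.Agent.Lib.Helper13.SectionExt.isIntegral_image (P1.graph Z U f)
  haveI : IsClosedImmersion (P1.graphClosureι Z U f) := by
    unfold P1.graphClosureι
    infer_instance
  have hd := (P1.graph Z U f).toImage.denseRange
  have hT := (P1.graph Z U f).toImage_imageι
  have main := main1904_aux Z δZ hZs (k + 1) hk U hη f hf (P1.graph Z U f).image
    (P1.graphClosureι Z U f) (P1.graph Z U f).toImage hd hT
  obtain ⟨hV0, hV1, hpη, hsurj⟩ := graph_facts Z U hη f hf (P1.graph Z U f).image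
    (P1.graphClosureι Z U f) (P1.graph Z U f).toImage hd hT
  have hk1 : k + 1 - 1 = k := by ring
  rw [hk1, hev] at main
  exact ⟨(P1.graph Z U f).image, P1.graphClosureι Z U f ≫ toP1 j, inferInstance, inferInstance,
    single_aux X δ δP hP k Z j hk g (P1.graph Z U f).image (P1.graphClosureι Z U f) main
      hV0 hV1 hpη hsurj⟩

include hX hP in
theorem main1901 (α : AlgebraicCycle X ℤ) (h0 : Cyc.RatEquivZero δ k α) :
    ∃ (I : Type u) (W : I → Scheme.{u}) (ι : (i : I) → (W i ⟶ CohB1.ProjSpaceOver 1 X))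
      (_ : ∀ i, IsIntegral (W i)) (_ : ∀ i, IsClosedImmersion (ι i)),
      (∀ i, δP (ι i (genericPoint (W i))) = k + 1 ∧
        ι i (genericPoint (W i)) ∉ Set.range ⇑(P1.sect X 0) ∧
        ι i (genericPoint (W i)) ∉ Set.range ⇑(P1.sect X 1)) ∧
      (∀ p : ↥(CohB1.ProjSpaceOver 1 X), ∃ U : Set ↥(CohB1.ProjSpaceOver 1 X),
        IsOpen U ∧ p ∈ U ∧ {i | (Set.range ⇑(ι i) ∩ U).Nonempty}.Finite) ∧
      ∀ x : X, α x = ∑ᶠ i, (Cyc.subschemeFun δ k (pullback.snd (ι i) (P1.sect X 0)) x -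
        Cyc.subschemeFun δ k (pullback.snd (ι i) (P1.sect X 1)) x) := by
  obtain ⟨I, ξ, f, hξ, hf, hlf, hα⟩ := h0
  have key : ∀ i : I, ∃ (W : Scheme.{u}) (ι : W ⟶ CohB1.ProjSpaceOver 1 X) (_ : IsIntegral W)
      (_ : IsClosedImmersion ι),
      δP (ι (genericPoint W)) = k + 1 ∧ ι (genericPoint W) ∉ Set.range ⇑(P1.sect X 0) ∧
      ι (genericPoint W) ∉ Set.range ⇑(P1.sect X 1) ∧
      (∀ w : W, CohB1.ProjSpaceOver.toBase 1 X (ι w) ∈ closure ({ξ i} : Set X)) ∧
      ∀ x : X, Cyc.divFun δ (ξ i) (f i) x =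
        Cyc.subschemeFun δ k (pullback.snd ι (P1.sect X 0)) x -
          Cyc.subschemeFun δ k (pullback.snd ι (P1.sect X 1)) x := by
    intro i
    have hp := Groth.Agent.Lib.Helper18.ClSub.clι_genericPoint (ξ i)
    have hall := fun g hg hk => single X δ hX δP hP k (Groth.Agent.Lib.Helper18.ClSub.cl (ξ i))
      (Groth.Agent.Lib.Helper18.ClSub.clι (ξ i)) hk g hg
    rw [Groth.Agent.Lib.Helper18.ClSub.range_clι] at hall
    generalize Groth.Agent.Lib.Helper18.ClSub.clι (ξ i)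
      (genericPoint (Groth.Agent.Lib.Helper18.ClSub.cl (ξ i))) = p at hp hall
    subst hp
    exact hall (f i) (hf i) (hξ i)
  choose W ι hW hι h1 h2 h3 h4 h5 using key
  refine ⟨I, W, ι, hW, hι, fun i => ⟨h1 i, h2 i, h3 i⟩, ?_, ?_⟩
  · intro p
    obtain ⟨U, hU, hpU, hfin⟩ := hlf (CohB1.ProjSpaceOver.toBase 1 X p)
    refine ⟨(CohB1.ProjSpaceOver.toBase 1 X) ⁻¹' U,
      hU.preimage (CohB1.ProjSpaceOver.toBase 1 X).continuous, hpU, hfin.subset ?_⟩
    rintro i ⟨_, ⟨w, rfl⟩, hwU⟩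
    exact ⟨CohB1.ProjSpaceOver.toBase 1 X (ι i w), h4 i w, hwU⟩
  · intro x
    rw [hα x]
    exact finsum_congr (fun i => h5 i x)

end single

end Groth.Agent.Lib.Helper18.P1Family
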