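import Mathlib
import Groth.Prelude.Def_Coh
import Groth.Agent.Lib.Helper18.P1.Sub
import Groth.Agent.Lib.Helper18.Cyc.GysinSheaf
import Groth.Agent.S0020
import Groth.Agent.S4636

/-!
# The restrictions to the fibres over `0` and `∞` of a coherent module on `P^1_X`
-/

set_option autoImplicit false
set_option maxHeartbeats 1000000
set_option linter.style.haveILetI false
set_option linter.unusedSectionVars false
universe u
open AlgebraicGeometry CategoryTheory Limits IsLocalRing Pointwise Classical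

namespace Groth.Agent.Lib.Helper18.P1Sheaf

open P1 Groth.Agent.Lib.Helper18.P1Kit Groth.Agent.Lib.Helper18.P1Core
  Groth.Agent.Lib.Helper18.Push Groth.Agent.Lib.Helper13.StalkSpecLoc
  Groth.Agent.Lib.Helper18.GysinSheaf Groth.Agent.Lib.Helper18.P1Sub

theorem isClosed_supp {X : Scheme.{u}} (F : X.Modules) (hF : Coh.IsCoh F) :
    IsClosed {x : X | Nontrivial (F.presheaf.stalk x)} := by
  have h1 : IsClosed (CohB1.support F) := Groth.Agent.S0020.result X F hF.2
  have h2 : CohB1.support F = {x : X | Nontrivial (F.presheaf.stalk x)} := by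
    ext x
    exact Groth.Agent.S4636.mem_support_iff_nontrivial F x
  rw [← h2]
  exact h1

/-- the stalk of the restriction to the zero scheme of `f ∈ 𝔪` is nonzero at the points of the
support -/
theorem nontrivial_stalk_pullback {X D : Scheme.{u}} [IsLocallyNoetherian X] (i : D ⟶ X)
    [IsClosedImmersion i] (F : X.Modules) (hF : Coh.IsCoh F) (d : D)
    (f : X.presheaf.stalk (i d)) (hker : RingHom.ker (i.stalkMap d).hom = Ideal.span {f})
    (hfm : f ∈ maximalIdeal (X.presheaf.stalk (i d)))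
    (hnt : Nontrivial (F.presheaf.stalk (i d))) :
    Nontrivial (((Scheme.Modules.pullback i).obj F).presheaf.stalk d) := by
  by_contra hcon
  rw [not_nontrivial_iff_subsingleton] at hcon
  have h0 : Module.length (D.presheaf.stalk d)
      (((Scheme.Modules.pullback i).obj F).presheaf.stalk d) = 0 :=
    Module.length_eq_zero_iff.2 hcon
  rw [length_stalk_pullback_zeroScheme i F hF d f hker, Module.length_eq_zero_iff] at h0
  haveI : Module.Finite (X.presheaf.stalk (i d)) (F.presheaf.stalk (i d)) :=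
    Groth.Agent.Lib.Helper7.StalkFree.finite_stalk_of_isCoh X F hF (i d)
  have htop : f • (⊤ : Submodule (X.presheaf.stalk (i d)) (F.presheaf.stalk (i d))) = ⊤ := by
    by_contra hne
    haveI := Submodule.Quotient.nontrivial_iff.2 hne
    exact not_subsingleton _ h0
  have hbot : (⊤ : Submodule (X.presheaf.stalk (i d)) (F.presheaf.stalk (i d))) = ⊥ := by
    apply Submodule.eq_bot_of_le_smul_of_le_jacobson_bot (Ideal.span {f}) ⊤ Module.Finite.fg_top
    · rw [Submodule.ideal_span_singleton_smul, htop]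
    · rw [Ideal.span_le, Set.singleton_subset_iff]
      exact (IsLocalRing.maximalIdeal_le_jacobson ⊥) hfm
  have : Subsingleton (F.presheaf.stalk (i d)) :=
    (Submodule.subsingleton_iff (X.presheaf.stalk (i d))).1
      (subsingleton_of_bot_eq_top hbot.symm)
  exact not_subsingleton _ this


section general

variable {Z Z' : Scheme.{u}} {r : Z ⟶ Proj grading.{u}} {i : Fin (1 + 1)} {e : Z' ⟶ Z}
  {w : Z' ⟶ Spec (CommRingCat.of R0.{u})} (sq : IsPullback e w r (pt.{u} i))

include sq in
theorem germ_mem_maximalIdeal (k' : Fin (1 + 1)) (hne : k' ≠ i) (z' : Z') :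
    (Z.presheaf.germ (V r i) (e z') (e_mem_V sq z')).hom (a r i k') ∈
      maximalIdeal (Z.presheaf.stalk (e z')) := by
  set f := (Z.presheaf.germ (V r i) (e z') (e_mem_V sq z')).hom (a r i k') with hf
  have hker : RingHom.ker (e.stalkMap z').hom = Ideal.span {f} := ker_stalkMap_e sq k' hne z'
  rw [mem_maximalIdeal, mem_nonunits_iff]
  intro hu
  have h0 : (e.stalkMap z').hom f = 0 := by
    have : f ∈ RingHom.ker (e.stalkMap z').hom := by
      rw [hker]
      exact Ideal.mem_span_singleton_self f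
    exact RingHom.mem_ker.1 this
  have hu' := hu.map (e.stalkMap z').hom
  rw [h0] at hu'
  exact not_isUnit_zero hu'

include sq in
/-- the weighted order sum of the coordinate function at a point of the fibre is the length of
the stalk of the restriction of the module to the fibre -/
theorem ordSum_fibre_sheaf (k' : Fin (1 + 1)) (hik : (i = 0 ∧ k' = 1) ∨ (i = 1 ∧ k' = 0))
    (δZ : Z → ℤ) (hZ : Cyc.IsSetup Z δZ) (k : ℤ) (F : Z.Modules) (hF : Coh.IsCoh F)
    (hdim : ∀ x : Z, Nontrivial (F.presheaf.stalk x) → δZ x ≤ k + 1)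
    (z' : Z') (hk : δZ (e z') = k)
    (H : ∀ ζ : Z, ζ ⤳ e z' → IsAssociatedPrime (maximalIdeal (Z.presheaf.stalk ζ))
      (F.presheaf.stalk ζ) → ζ ∈ V r k') :
    ordSum δZ (Cyc.sheafFun δZ (k + 1) F)
      (e z') ((Z.presheaf.germ (V r i) (e z') (e_mem_V sq z')).hom (a r i k')) =
      ((Module.length (Z'.presheaf.stalk z')
        (((Scheme.Modules.pullback e).obj F).presheaf.stalk z')).toNat : ℤ) := by
  haveI : IsLocallyNoetherian Z := hZ.1
  haveI : IsClosedImmersion e := isClosedImmersion_of_sq sq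
  haveI : F.IsQuasicoherent := hF.1
  have hne : k' ≠ i := by
    rcases hik with ⟨rfl, rfl⟩ | ⟨rfl, rfl⟩ <;> decide
  set f := (Z.presheaf.germ (V r i) (e z') (e_mem_V sq z')).hom (a r i k') with hf
  have hker : RingHom.ker (e.stalkMap z').hom = Ideal.span {f} := ker_stalkMap_e sq k' hne z'
  have hfm : f ∈ maximalIdeal (Z.presheaf.stalk (e z')) := germ_mem_maximalIdeal sq k' hne z'
  have hreg : IsSMulRegular (F.presheaf.stalk (e z')) f := by
    apply isSMulRegular_sheaf
    intro ζ h hass hmem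
    exact notMem_V_of_mem_primeOf r i k' hik h (e_mem_V sq z') hmem (H ζ h hass)
  rw [ordSum_sheaf δZ hZ k F hF hdim (e z') hk f hfm hreg,
    length_stalk_pullback_zeroScheme e F hF z' f hker]

end general


section main

variable (X : Scheme.{u}) (δ : X → ℤ) (hX : Cyc.IsSetup X δ)
  (δP : ↥(CohB1.ProjSpaceOver 1 X) → ℤ)
  (hP : Cyc.DeltaCompat (CohB1.ProjSpaceOver.toBase 1 X) δP δ) (k : ℤ)

instance isClosedImmersion_sect_toBase (i : Fin (1 + 1)) :
    IsClosedImmersion (sect X i ≫ CohB1.ProjSpaceOver.toBase 1 X) := by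
  rw [sect_toBase]
  infer_instance

theorem toBase_sect_apply (i : Fin (1 + 1)) (x : X) :
    (CohB1.ProjSpaceOver.toBase 1 X) (sect X i x) = x := by
  have := congrArg (fun F : X ⟶ X => F x) (sect_toBase X i)
  exact this

include hP in
theorem delta_sect (i : Fin (1 + 1)) (x : X) : δP (sect X i x) = δ x := by
  rw [delta_eq_of_comp (CohB1.ProjSpaceOver.toBase 1 X) (sect X i) δP δ hP x,
    toBase_sect_apply]

include hX hP in
theorem main1903 (F : (CohB1.ProjSpaceOver 1 X).Modules) (hF : Coh.IsCoh F)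
    (hsupp : ∀ p : ↥(CohB1.ProjSpaceOver 1 X), Nontrivial (F.presheaf.stalk p) → δP p ≤ k + 1)
    (h0 : ∀ x : X, Nontrivial (((Scheme.Modules.pullback (P1.sect X 0)).obj F).presheaf.stalk x) →
      δ x ≤ k)
    (h1 : ∀ x : X, Nontrivial (((Scheme.Modules.pullback (P1.sect X 1)).obj F).presheaf.stalk x) →
      δ x ≤ k)
    (hemb : ∀ p : ↥(CohB1.ProjSpaceOver 1 X),
      IsAssociatedPrime (maximalIdeal ((CohB1.ProjSpaceOver 1 X).presheaf.stalk p))
        (F.presheaf.stalk p) →
      p ∉ Set.range ⇑(P1.sect X 0) ∪ Set.range ⇑(P1.sect X 1) ∨ δP p < k)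
    (α β : AlgebraicCycle X ℤ)
    (hα : ⇑α = Cyc.sheafFun δ k ((Scheme.Modules.pullback (P1.sect X 0)).obj F))
    (hβ : ⇑β = Cyc.sheafFun δ k ((Scheme.Modules.pullback (P1.sect X 1)).obj F)) :
    Cyc.RatEquiv δ k α β := by
  have hPs : Cyc.IsSetup (CohB1.ProjSpaceOver 1 X) δP := isSetup_P X δ hX δP hP
  haveI : IsLocallyNoetherian (CohB1.ProjSpaceOver 1 X) := hPs.1
  haveI : IsLocallyNoetherian X := hX.1
  have hdimP := hPs.2.2
  set r : CohB1.ProjSpaceOver 1 X ⟶ Proj grading.{u} := q X with hr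
  have sq₀ := isPullback_sect X 0
  have sq₁ := isPullback_sect X 1
  have hr0 := range_e sq₀ 1 (by decide)
  have hr1 := range_e sq₁ 0 (by decide)
  set c : ↥(CohB1.ProjSpaceOver 1 X) → ℤ := Cyc.sheafFun δP (k + 1) F with hc
  have hcnt : ∀ ζ, c ζ ≠ 0 → Nontrivial (F.presheaf.stalk ζ) := by
    intro ζ hζ
    by_contra hnt
    rw [not_nontrivial_iff_subsingleton] at hnt
    apply hζ
    show Cyc.sheafFun δP (k + 1) F ζ = 0
    unfold Cyc.sheafFun
    split_ifs
    · have : Module.length ((CohB1.ProjSpaceOver 1 X).presheaf.stalk ζ) (F.presheaf.stalk ζ) = 0 :=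
        Module.length_eq_zero_iff.2 hnt
      rw [this]
      rfl
    · rfl
  have hgen : ∀ ζ, δP ζ = k + 1 → c ζ ≠ 0 → ζ ∈ V r 0 ∧ ζ ∈ V r 1 := by
    intro ζ hζ hcζ
    have hnt := hcnt ζ hcζ
    constructor
    · by_contra hV
      have : ζ ∈ Set.range (sect X 1) := by rw [hr1]; exact hV
      obtain ⟨x, rfl⟩ := this
      have hnt' := nontrivial_stalk_pullback (sect X 1) F hF x _
        (ker_stalkMap_e sq₁ 0 (by decide) x) (germ_mem_maximalIdeal sq₁ 0 (by decide) x) hnt
      have := h1 x hnt'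
      rw [delta_sect X δ δP hP 1 x] at hζ
      omega
    · by_contra hV
      have : ζ ∈ Set.range (sect X 0) := by rw [hr0]; exact hV
      obtain ⟨x, rfl⟩ := this
      have hnt' := nontrivial_stalk_pullback (sect X 0) F hF x _
        (ker_stalkMap_e sq₀ 1 (by decide) x) (germ_mem_maximalIdeal sq₀ 1 (by decide) x) hnt
      have := h0 x hnt'
      rw [delta_sect X δ δP hP 0 x] at hζ
      omega
  have hlf : ∀ z : ↥(CohB1.ProjSpaceOver 1 X), ∃ U : Set ↥(CohB1.ProjSpaceOver 1 X),
      IsOpen U ∧ z ∈ U ∧ {i : {ζ : ↥(CohB1.ProjSpaceOver 1 X) // δP ζ = k + 1 ∧ c ζ ≠ 0} |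
        (closure {i.1} ∩ U).Nonempty}.Finite := by
    intro z
    exact locallyFinite_maximal_points (X := CohB1.ProjSpaceOver 1 X)
      {p | Nontrivial (F.presheaf.stalk p)} (isClosed_supp F hF)
      {ζ | δP ζ = k + 1 ∧ c ζ ≠ 0} (fun s hs => ⟨hcnt s hs.2, fun y hy hys => by
        by_contra hne
        have h1 := (hdimP y s hys hne).1
        have h2 := hsupp y hy
        have h3 : δP s = k + 1 := hs.1
        omega⟩) z
  obtain ⟨γ, hrat, hγ0, hγ01, hγV0, hγV1, -⟩ := core1 r δP hPs k c hlf hgen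
  have hpush := ratEquivZero_map (CohB1.ProjSpaceOver.toBase 1 X) δP δ hdimP hX.2.2 hP k γ hrat
  unfold Cyc.RatEquiv
  have hH : ∀ (z ζ : ↥(CohB1.ProjSpaceOver 1 X)), δP z = k → ζ ⤳ z →
      IsAssociatedPrime (maximalIdeal ((CohB1.ProjSpaceOver 1 X).presheaf.stalk ζ))
        (F.presheaf.stalk ζ) →
      ζ ∉ Set.range ⇑(P1.sect X 0) ∪ Set.range ⇑(P1.sect X 1) := by
    intro z ζ hzk hsp hass
    rcases hemb ζ hass with h1 | h1
    · exact h1
    · exfalso
      by_cases hne : ζ = z
      · rw [hne] at h1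
        omega
      · have h2 := (hdimP ζ z hsp hne).1
        omega
  have he : α - β = AlgebraicCycle.map (CohB1.ProjSpaceOver.toBase 1 X) δP δ γ := by
    ext x
    rw [map_apply_core2 (CohB1.ProjSpaceOver.toBase 1 X) r sq₀ sq₁ δP δ hP γ hγ01 x]
    have hs0 : {z' : X | (sect X 0 ≫ CohB1.ProjSpaceOver.toBase 1 X) z' = x} = {x} := by
      ext z'
      show (sect X 0 ≫ CohB1.ProjSpaceOver.toBase 1 X) z' = x ↔ z' = x
      rw [sect_toBase]
      rfl
    have hs1 : {z' : X | (sect X 1 ≫ CohB1.ProjSpaceOver.toBase 1 X) z' = x} = {x} := by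
      ext z'
      show (sect X 1 ≫ CohB1.ProjSpaceOver.toBase 1 X) z' = x ↔ z' = x
      rw [sect_toBase]
      rfl
    rw [hs0, hs1, finsum_mem_singleton, finsum_mem_singleton]
    show α x - β x = _
    rw [hα, hβ, sub_eq_add_neg]
    congr 1
    · unfold Cyc.sheafFun
      by_cases hxk : δ x = k
      · rw [if_pos hxk]
        have hδ : δP (sect X 0 x) = k := by rw [delta_sect X δ δP hP 0 x, hxk]
        have hV0 : sect X 0 x ∈ V r 0 := e_mem_V sq₀ x
        have hV1 : sect X 0 x ∉ V r 1 := by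
          have : sect X 0 x ∈ Set.range (sect X 0) := ⟨x, rfl⟩
          rw [hr0] at this
          exact this
        rw [hγV0 _ hV0 hV1 hδ]
        refine (ordSum_fibre_sheaf sq₀ 1 (Or.inl ⟨rfl, rfl⟩) δP hPs k F hF hsupp x hδ ?_).symm
        intro ζ hsp hass
        by_contra hζ1
        have : ζ ∈ Set.range (sect X 0) := by rw [hr0]; exact hζ1
        exact hH _ _ hδ hsp hass (Or.inl this)
      · rw [if_neg hxk]
        symm
        apply hγ0
        rw [delta_sect X δ δP hP 0 x]
        exact hxk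
    · unfold Cyc.sheafFun
      by_cases hxk : δ x = k
      · rw [if_pos hxk]
        have hδ : δP (sect X 1 x) = k := by rw [delta_sect X δ δP hP 1 x, hxk]
        have hV1 : sect X 1 x ∈ V r 1 := e_mem_V sq₁ x
        have hV0 : sect X 1 x ∉ V r 0 := by
          have : sect X 1 x ∈ Set.range (sect X 1) := ⟨x, rfl⟩
          rw [hr1] at this
          exact this
        rw [hγV1 _ hV1 hV0 hδ]
        congr 1
        refine (ordSum_fibre_sheaf sq₁ 0 (Or.inr ⟨rfl, rfl⟩) δP hPs k F hF hsupp x hδ ?_).symm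
        intro ζ hsp hass
        by_contra hζ0
        have : ζ ∈ Set.range (sect X 1) := by rw [hr1]; exact hζ0
        exact hH _ _ hδ hsp hass (Or.inr this)
      · rw [if_neg hxk, neg_zero]
        symm
        apply hγ0
        rw [delta_sect X δ δP hP 1 x]
        exact hxk
  rw [he]
  exact hpush

end main

end Groth.Agent.Lib.Helper18.P1Sheaf
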